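import Cfsg.Agent.Lib.Golay.Stabilizers
import Cfsg.Agent.Lib.Linear.Order
import Cfsg.Agent.Lib.Linear.Transvection

/-!
# The stabiliser of three points is PSL(3,4)
-/

set_option autoImplicit false

namespace Cfsg.Agent.Lib.Golay.PSL34

open Cfsg
open scoped Pointwise Matrix

/-- The field of order four, with decidable operations. -/
inductive F4 : Type
  | o | l | w | u

namespace F4

/-- Number of an element. -/
def num : F4 → ℕ
  | o => 0
  | l => 1
  | w => 2
  | u => 3

/-- Element with a number. -/
def ofNum : ℕ → F4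
  | 0 => o
  | 1 => l
  | 2 => w
  | _ => u

theorem ofNum_num (x : F4) : ofNum x.num = x := by cases x <;> rfl

instance instDecidableEqF4 : DecidableEq F4 := fun x y =>
  decidable_of_iff (x.num = y.num) ⟨fun h => by rw [← ofNum_num x, h, ofNum_num], congrArg num⟩

instance instFintypeF4 : Fintype F4 where
  elems := {o, l, w, u}
  complete x := by cases x <;> decide

/-- Addition. -/
def add : F4 → F4 → F4
  | o, y => y
  | x, o => x
  | l, l => o
  | l, w => u
  | l, u => w
  | w, l => u
  | w, w => o
  | w, u => l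
  | u, l => w
  | u, w => l
  | u, u => o

/-- Multiplication. -/
def mul : F4 → F4 → F4
  | o, _ => o
  | _, o => o
  | l, y => y
  | x, l => x
  | w, w => u
  | w, u => l
  | u, w => l
  | u, u => w

/-- Inverse. -/
def inv : F4 → F4
  | o => o
  | l => l
  | w => u
  | u => w

instance instZeroF4 : Zero F4 := ⟨o⟩
instance instOneF4 : One F4 := ⟨l⟩
instance instAddF4 : Add F4 := ⟨add⟩
instance instMulF4 : Mul F4 := ⟨mul⟩
instance instNegF4 : Neg F4 := ⟨id⟩
instance instInvF4 : Inv F4 := ⟨inv⟩

instance instFieldF4 : Field F4 where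
  add_assoc := by decide +kernel
  zero_add := by decide +kernel
  add_zero := by decide +kernel
  add_comm := by decide +kernel
  neg_add_cancel := by decide +kernel
  mul_assoc := by decide +kernel
  one_mul := by decide +kernel
  mul_one := by decide +kernel
  mul_comm := by decide +kernel
  left_distrib := by decide +kernel
  right_distrib := by decide +kernel
  zero_mul := by decide +kernel
  mul_zero := by decide +kernel
  exists_pair_ne := ⟨o, l, by decide⟩
  mul_inv_cancel := by decide +kernel
  inv_zero := rfl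
  nsmul := nsmulRec
  zsmul := zsmulRec
  nnqsmul := _
  qsmul := _

theorem card_eq : Fintype.card F4 = 4 := by decide

end F4

/-- Vectors of length three. -/
abbrev Vec : Type := Fin 3 → F4

/-- The special linear group. -/
abbrev SL34 : Type := Matrix.SpecialLinearGroup (Fin 3) F4

/-- Table of projective points by vector number. -/
def normTable : List ℕ := [0, 0, 0, 0, 1, 2, 3, 4, 1, 4, 2, 3, 1, 3, 4, 2, 5, 6, 7, 8, 9, 10, 11, 12, 13, 14, 15, 16, 17, 18, 19, 20, 5, 8, 6, 7, 17, 20, 18, 19, 9, 12, 10, 11, 13, 16, 14, 15, 5, 7, 8, 6, 13, 15, 16, 14, 17, 19, 20, 18, 9, 11, 12, 10]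

/-- Representative vectors of the 21 projective points. -/
def vecTable : List Vec := [![F4.o, F4.o, F4.l], ![F4.o, F4.l, F4.o], ![F4.o, F4.l, F4.l], ![F4.o, F4.l, F4.w], ![F4.o, F4.l, F4.u], ![F4.l, F4.o, F4.o], ![F4.l, F4.o, F4.l], ![F4.l, F4.o, F4.w], ![F4.l, F4.o, F4.u], ![F4.l, F4.l, F4.o], ![F4.l, F4.l, F4.l], ![F4.l, F4.l, F4.w], ![F4.l, F4.l, F4.u], ![F4.l, F4.w, F4.o], ![F4.l, F4.w, F4.l], ![F4.l, F4.w, F4.w], ![F4.l, F4.w, F4.u], ![F4.l, F4.u, F4.o], ![F4.l, F4.u, F4.l], ![F4.l, F4.u, F4.w], ![F4.l, F4.u, F4.u]]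

/-- The projective point of a vector. -/
def idxV (v : Vec) : Fin 21 :=
  Fin.ofNat 21 (normTable.getD (16 * (v 0).num + 4 * (v 1).num + (v 2).num) 0)

/-- The representative vector of a projective point. -/
def vec (i : Fin 21) : Vec := vecTable.getD i 0

theorem vec_spec : ∀ i : Fin 21, vec i ≠ 0 ∧ idxV (vec i) = i := by decide +kernel

theorem idxV_smul : ∀ (c : F4) (v : Vec), c ≠ 0 → idxV (c • v) = idxV v := by decide +kernel

theorem exists_scalar : ∀ v : Vec, v ≠ 0 → ∃ c : F4, c ≠ 0 ∧ vec (idxV v) = c • v := by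
  decide +kernel

theorem mulVec_ne_zero (g : SL34) {v : Vec} (hv : v ≠ 0) :
    (g : Matrix (Fin 3) (Fin 3) F4) *ᵥ v ≠ 0 := by
  intro h
  apply hv
  have := congrArg (fun z => ((g⁻¹ : SL34) : Matrix (Fin 3) (Fin 3) F4) *ᵥ z) h
  simp only [Matrix.mulVec_zero, Matrix.mulVec_mulVec] at this
  rwa [← Matrix.SpecialLinearGroup.coe_mul, inv_mul_cancel, Matrix.SpecialLinearGroup.coe_one,
    Matrix.one_mulVec] at this

/-- The map on the 21 projective points. -/
def act (g : SL34) (i : Fin 21) : Fin 21 :=
  idxV ((g : Matrix (Fin 3) (Fin 3) F4) *ᵥ vec i)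

theorem act_mul (g h : SL34) (i : Fin 21) : act (g * h) i = act g (act h i) := by
  obtain ⟨c, hc, hv⟩ := exists_scalar _ (mulVec_ne_zero h (vec_spec i).1)
  simp only [act, Matrix.SpecialLinearGroup.coe_mul, ← Matrix.mulVec_mulVec, hv,
    Matrix.mulVec_smul, idxV_smul c _ hc]

theorem act_one (i : Fin 21) : act 1 i = i := by
  simp [act, (vec_spec i).2]

/-- The permutation of the 21 points. -/
def actPerm (g : SL34) : Equiv.Perm (Fin 21) where
  toFun := act g
  invFun := act g⁻¹
  left_inv i := by rw [← act_mul, inv_mul_cancel, act_one]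
  right_inv i := by rw [← act_mul, mul_inv_cancel, act_one]

/-- The action homomorphism. -/
def actHom : SL34 →* Equiv.Perm (Fin 21) where
  toFun := actPerm
  map_one' := Equiv.ext act_one
  map_mul' g h := Equiv.ext (act_mul g h)

theorem kernel_spec : ∀ a b c : F4,
    (∀ i : Fin 21, idxV (fun k => ![a, b, c] k * vec i k) = i) → a = b ∧ a = c := by decide +kernel

theorem axis_spec : ∀ (j : Fin 3) (v : Vec), v ≠ 0 → idxV v = idxV (Pi.single j 1) →
    ∀ i, i ≠ j → v i = 0 := by decide +kernel

theorem fixes_axis : ∀ j : Fin 3, vec (idxV (Pi.single j 1)) = Pi.single j 1 := by decide +kernel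

theorem ker_actHom : actHom.ker = Subgroup.center SL34 := by
  ext g
  rw [MonoidHom.mem_ker, Matrix.SpecialLinearGroup.mem_center_iff]
  constructor
  · intro h
    have hfix : ∀ i, act g i = i := fun i => by
      have := Equiv.congr_fun h i
      exact this
    have hdiag : ∀ i j, i ≠ j → (g : Matrix (Fin 3) (Fin 3) F4) i j = 0 := by
      intro i j hij
      have h1 := hfix (idxV (Pi.single j 1))
      rw [act, fixes_axis] at h1
      have h2 := axis_spec j _ (mulVec_ne_zero g (by simp)) h1 i hij
      simpa using h2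
    have hg : (g : Matrix (Fin 3) (Fin 3) F4) =
        Matrix.diagonal fun i => (g : Matrix (Fin 3) (Fin 3) F4) i i := by
      ext i j
      rcases eq_or_ne i j with rfl | hij
      · simp
      · simp [Matrix.diagonal_apply_ne _ hij, hdiag i j hij]
    obtain ⟨hb, hc⟩ := kernel_spec ((g : Matrix (Fin 3) (Fin 3) F4) 0 0)
      ((g : Matrix (Fin 3) (Fin 3) F4) 1 1) ((g : Matrix (Fin 3) (Fin 3) F4) 2 2) (fun i => by
        have h1 := hfix i
        rw [act, hg] at h1
        conv_rhs => rw [← h1]
        congr 1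
        funext k
        rw [Matrix.mulVec_diagonal]
        fin_cases k <;> rfl)
    refine ⟨(g : Matrix (Fin 3) (Fin 3) F4) 0 0, ?_, ?_⟩
    · have hd := g.2
      rw [hg, Matrix.det_diagonal, Fin.prod_univ_three, ← hb, ← hc] at hd
      rw [Fintype.card_fin, pow_succ, pow_two]
      exact hd
    · rw [hg]
      ext i j
      rcases eq_or_ne i j with rfl | hij
      · fin_cases i <;> simp [← hb, ← hc]
      · simp [hij]
  · rintro ⟨r, hr, hg⟩
    refine Equiv.ext fun i => ?_
    change act g i = i
    have hr0 : r ≠ 0 := by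
      rintro rfl
      simp at hr
    rw [act, ← hg, Matrix.scalar_apply, show Matrix.diagonal (fun _ : Fin 3 => r) *ᵥ vec i =
      r • vec i from funext fun k => by rw [Matrix.mulVec_diagonal]; rfl, idxV_smul r _ hr0,
      (vec_spec i).2]

/-- The indices of the 21 points outside the base triple. -/
def labelTable : List ℕ := [2, 3, 5, 14, 17, 4, 13, 16, 22, 11, 8, 18, 12, 19, 6, 7, 21, 20, 10, 9, 15]

/-- The bijection from the projective points to the points outside the base triple. -/
def label (i : Fin 21) : {p : GolayPt // p ≠ none ∧ p ≠ some 0 ∧ p ≠ some 1} :=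
  ⟨pt (labelTable.getD i 0), by revert i; decide +kernel⟩

theorem label_bijective : Function.Bijective label := by
  refine (Fintype.bijective_iff_injective_and_card _).mpr ⟨?_, by decide +kernel⟩
  intro i j h
  have := congrArg Subtype.val h
  revert this
  revert i j
  decide +kernel

/-- The bijection as an equivalence. -/
noncomputable def labelEquiv : Fin 21 ≃ {p : GolayPt // p ≠ none ∧ p ≠ some 0 ∧ p ≠ some 1} :=
  Equiv.ofBijective label label_bijective

/-- The homomorphism to permutations of the 24 points. -/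
noncomputable def hom : SL34 →* Equiv.Perm GolayPt :=
  (Equiv.Perm.extendDomainHom labelEquiv).comp actHom

theorem hom_label (g : SL34) (i : Fin 21) : hom g (label i) = label (act g i) :=
  Equiv.Perm.extendDomain_apply_image (actHom g) labelEquiv i

theorem hom_fix (g : SL34) {p : GolayPt} (hp : ¬(p ≠ none ∧ p ≠ some 0 ∧ p ≠ some 1)) :
    hom g p = p :=
  Equiv.Perm.extendDomain_apply_not_subtype (actHom g) labelEquiv hp

/-- The code of the permutation of an element. -/
def codeOf (g : SL34) : ℕ :=
  Computation.packW 5 (fun n =>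
    if n ∈ labelTable then labelTable.getD (act g (Fin.ofNat 21 (labelTable.idxOf n))) 0 else n) 24

theorem transvection_checks : ∀ (i j : Fin 3) (c : F4) (h : i ≠ j),
    inM24 (codeOf (Matrix.SpecialLinearGroup.transvection h c)) = true ∧
    (∀ k : Fin 21, imgCode (codeOf (Matrix.SpecialLinearGroup.transvection h c)) (label k) =
      label (act (Matrix.SpecialLinearGroup.transvection h c) k)) ∧
    ∀ p : GolayPt, p = none ∨ p = some 0 ∨ p = some 1 →
      imgCode (codeOf (Matrix.SpecialLinearGroup.transvection h c)) p = p := by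
  decide +kernel

/-- The stabiliser of the base triple. -/
def target : Subgroup (Equiv.Perm GolayPt) :=
  M24 ⊓ MulAction.stabilizer (Equiv.Perm GolayPt) (none : GolayPt) ⊓
    MulAction.stabilizer (Equiv.Perm GolayPt) (some 0 : GolayPt) ⊓
    MulAction.stabilizer (Equiv.Perm GolayPt) (some 1 : GolayPt)

theorem range_le : hom.range ≤ target := by
  rw [MonoidHom.range_eq_map, ← Linear.closure_transvectionSet, MonoidHom.map_closure,
    Subgroup.closure_le]
  rintro _ ⟨_, ⟨i, j, hij, c, rfl⟩, rfl⟩
  obtain ⟨h1, h2, h3⟩ := transvection_checks i j c hij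
  have hf := fun p => hom_fix (Matrix.SpecialLinearGroup.transvection hij c) (p := p)
  refine ⟨⟨⟨?_, hf none (by simp)⟩, hf (some 0) (by simp)⟩, hf (some 1) (by simp)⟩
  suffices he : hom (Matrix.SpecialLinearGroup.transvection hij c) =
      gperm (codeOf (Matrix.SpecialLinearGroup.transvection hij c)) by
    show hom _ ∈ M24
    rw [he]
    exact gperm_mem_M24 h1
  refine eq_gperm (okCode_of_inM24 h1) fun p => ?_
  by_cases hp : p ≠ none ∧ p ≠ some 0 ∧ p ≠ some 1
  · obtain ⟨k, hk⟩ := label_bijective.2 ⟨p, hp⟩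
    obtain rfl : (label k : GolayPt) = p := congrArg Subtype.val hk
    rw [hom_label, h2]
  · rw [hf p hp, h3 p]
    by_contra hc
    simp only [not_or] at hc
    exact hp hc

theorem ker_hom : hom.ker = Subgroup.center SL34 := by
  rw [← ker_actHom]
  ext g
  simp only [MonoidHom.mem_ker, hom, MonoidHom.comp_apply]
  exact map_eq_one_iff _ (Equiv.Perm.extendDomainHom_injective labelEquiv)

theorem card_PSL : Nat.card (Matrix.ProjectiveSpecialLinearGroup (Fin 3) F4) = 20160 := by
  have h := Linear.sub_one_mul_card_SL (F := F4) 3 (by norm_num)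
  rw [F4.card_eq, Fin.prod_univ_three] at h
  have h2 := Linear.card_SL_eq_gcd_mul_card_PSL (ι := Fin 3) (F := F4)
  rw [Fintype.card_fin, Nat.card_eq_fintype_card (α := F4), F4.card_eq] at h2
  have hg : Nat.gcd 3 (4 - 1) = 3 := by decide
  rw [hg] at h2
  rw [h2] at h
  generalize Nat.card (Matrix.ProjectiveSpecialLinearGroup (Fin 3) F4) = n at h ⊢
  norm_num at h
  omega

theorem range_eq : hom.range = target := by
  refine Subgroup.eq_of_le_of_card_ge range_le ?_
  have hc : Nat.card target = 20160 := card_stab_three (by simp) (by simp) (by decide)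
  rw [hc, ← card_PSL, ← Subgroup.index_ker hom, ker_hom]
  rfl

/-- PSL(3,4) is the stabiliser of the base triple. -/
noncomputable def pslEquiv : Matrix.ProjectiveSpecialLinearGroup (Fin 3) F4 ≃* target :=
  ((QuotientGroup.quotientMulEquivOfEq ker_hom.symm).trans
    (QuotientGroup.quotientKerEquivRange hom)).trans (MulEquiv.subgroupCongr range_eq)

theorem map_center {A B : Type*} [Group A] [Group B] (e : A ≃* B) :
    (Subgroup.center A).map e.toMonoidHom = Subgroup.center B := by
  ext b
  simp only [Subgroup.mem_map, Subgroup.mem_center_iff]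
  constructor
  · rintro ⟨a, ha, rfl⟩ y
    obtain ⟨x, rfl⟩ := e.surjective y
    change e x * e a = e a * e x
    rw [← map_mul, ← map_mul, ha]
  · intro hb
    refine ⟨e.symm b, fun x => e.injective ?_, e.apply_symm_apply b⟩
    simpa using hb (e x)

/-- PSL over isomorphic fields. -/
theorem psl_congr {F : Type*} [Field F] (σ : F ≃+* F4) :
    Nonempty (Matrix.ProjectiveSpecialLinearGroup (Fin 3) F ≃*
      Matrix.ProjectiveSpecialLinearGroup (Fin 3) F4) := by
  let f := Matrix.SpecialLinearGroup.map (n := Fin 3) σ.toRingHom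
  let g := Matrix.SpecialLinearGroup.map (n := Fin 3) σ.symm.toRingHom
  have hgf : ∀ a, g (f a) = a := fun a => by
    apply Matrix.SpecialLinearGroup.ext
    intro i j
    exact σ.symm_apply_apply _
  have hfg : ∀ a, f (g a) = a := fun a => by
    apply Matrix.SpecialLinearGroup.ext
    intro i j
    exact σ.apply_symm_apply _
  let e : Matrix.SpecialLinearGroup (Fin 3) F ≃* SL34 :=
    { toFun := f, invFun := g, left_inv := hgf, right_inv := hfg, map_mul' := f.map_mul }
  exact ⟨QuotientGroup.congr _ _ e (map_center e)⟩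

theorem stab_three_psl {p q r : GolayPt} (hpq : p ≠ q) (hpr : p ≠ r) (hqr : q ≠ r) (F : Type)
    [Field F] [Fintype F] (hF : Fintype.card F = 4) :
    Nonempty (↥(M24 ⊓ MulAction.stabilizer (Equiv.Perm GolayPt) p ⊓
      MulAction.stabilizer (Equiv.Perm GolayPt) q ⊓ MulAction.stabilizer (Equiv.Perm GolayPt) r) ≃*
      Matrix.ProjectiveSpecialLinearGroup (Fin 3) F) := by
  classical
  obtain ⟨e⟩ := psl_congr (FiniteField.ringEquivOfCardEq (K := F) (K' := F4)
    (by rw [hF, F4.card_eq]))
  obtain ⟨a, ha, rfl, rfl, rfl⟩ := exists_map_three (p := (none : GolayPt)) (q := some 0)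
    (r := some 1) (by simp) (by simp) (by decide) hpq hpr hqr
  have hmap : target.map (MulAut.conj a).toMonoidHom =
      M24 ⊓ MulAction.stabilizer (Equiv.Perm GolayPt) (a none) ⊓
        MulAction.stabilizer (Equiv.Perm GolayPt) (a (some 0)) ⊓
        MulAction.stabilizer (Equiv.Perm GolayPt) (a (some 1)) := by
    have hK : M24.map (MulAut.conj a).toMonoidHom = M24 := by
      ext g
      constructor
      · rintro ⟨h, hh, rfl⟩
        exact Subgroup.mul_mem _ (Subgroup.mul_mem _ ha hh) (Subgroup.inv_mem _ ha)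
      · intro hg
        exact ⟨a⁻¹ * g * a, Subgroup.mul_mem _ (Subgroup.mul_mem _ (Subgroup.inv_mem _ ha) hg) ha,
          by simp [mul_assoc]⟩
    simp only [target, Subgroup.map_inf _ _ (MulAut.conj a).toMonoidHom (MulAut.conj a).injective, hK,
      ← MulAction.stabilizer_smul_eq_stabilizer_map_conj, Equiv.Perm.smul_def]
  exact ⟨((MulEquiv.subgroupCongr hmap.symm).trans
    (target.equivMapOfInjective _ (MulEquiv.injective (MulAut.conj a))).symm).trans
      (pslEquiv.symm.trans e.symm)⟩

end Cfsg.Agent.Lib.Golay.PSL34
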