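import Cfsg.Agent.Lib.Golay.M24
import Cfsg.Prelude.Def_Spor_Mathieu

/-!
# Stabilisers of points and dodecads in the group of the code
-/

set_option autoImplicit false

namespace Cfsg.Agent.Lib.Golay

open Cfsg
open scoped Pointwise

/-! ### general facts -/

/-- The stabiliser in a subgroup is its intersection with the stabiliser. -/
def stabEquivInf {P X : Type*} [Group P] [MulAction P X] (H : Subgroup P) (x : X) :
    MulAction.stabilizer H x ≃* ↥(H ⊓ MulAction.stabilizer P x) where
  toFun g := ⟨((g : H) : P), (g : H).2, g.2⟩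
  invFun g := ⟨⟨(g : P), g.2.1⟩, g.2.2⟩
  left_inv _ := rfl
  right_inv _ := rfl
  map_mul' _ _ := rfl

/-- A double stabiliser in a subgroup is an intersection of stabilisers. -/
def stabEquivInfTwo {P X Y : Type*} [Group P] [MulAction P X] [MulAction P Y] (H : Subgroup P)
    (x : X) (y : Y) :
    ↥(MulAction.stabilizer H x ⊓ MulAction.stabilizer H y) ≃*
      ↥(H ⊓ MulAction.stabilizer P x ⊓ MulAction.stabilizer P y) where
  toFun g := ⟨((g : H) : P), ⟨(g : H).2, g.2.1⟩, g.2.2⟩
  invFun g := ⟨⟨(g : P), g.2.1.1⟩, g.2.1.2, g.2.2⟩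
  left_inv _ := rfl
  right_inv _ := rfl
  map_mul' _ _ := rfl

/-- A triple stabiliser in a subgroup is an intersection of stabilisers. -/
def stabEquivInfThree {P X Y Z : Type*} [Group P] [MulAction P X] [MulAction P Y] [MulAction P Z]
    (H : Subgroup P) (x : X) (y : Y) (z : Z) :
    ↥(MulAction.stabilizer H x ⊓ MulAction.stabilizer H y ⊓ MulAction.stabilizer H z) ≃*
      ↥(H ⊓ MulAction.stabilizer P x ⊓ MulAction.stabilizer P y ⊓ MulAction.stabilizer P z) where
  toFun g := ⟨((g : H) : P), ⟨⟨(g : H).2, g.2.1.1⟩, g.2.1.2⟩, g.2.2⟩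
  invFun g := ⟨⟨(g : P), g.2.1.1.1⟩, ⟨g.2.1.1.2, g.2.1.2⟩, g.2.2⟩
  left_inv _ := rfl
  right_inv _ := rfl
  map_mul' _ _ := rfl

theorem ncard_orbit_mul_card_inf {P X : Type*} [Group P] [MulAction P X] (H : Subgroup P) (x : X) :
    (MulAction.orbit H x).ncard * Nat.card ↥(H ⊓ MulAction.stabilizer P x) = Nat.card H := by
  rw [← MulAction.index_stabilizer H x, ← Nat.card_congr (stabEquivInf H x).toEquiv, mul_comm,
    Subgroup.card_mul_index]

theorem ncard_mul_card_inf {P X : Type*} [Group P] [MulAction P X] (H : Subgroup P) (x : X)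
    (S : Set X) (hS : ∀ h ∈ H, h • x ∈ S) (hS' : ∀ y ∈ S, ∃ h ∈ H, h • x = y) :
    S.ncard * Nat.card ↥(H ⊓ MulAction.stabilizer P x) = Nat.card H := by
  have : MulAction.orbit H x = S := by
    ext y
    constructor
    · rintro ⟨h, rfl⟩; exact hS h h.2
    · intro hy
      obtain ⟨h, hh, rfl⟩ := hS' y hy
      exact ⟨⟨h, hh⟩, rfl⟩
  rw [← this, ncard_orbit_mul_card_inf]

/-- Prescribed images of a few points extend to prescribed images of five. -/
theorem exists_extension (S : Finset GolayPt) {m : ℕ} (hm : m ≤ S.card) :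
    ∀ {n : ℕ}, n ≤ m → ∀ x : Fin n ↪ GolayPt, (∀ i, x i ∈ S) →
      ∃ x' : Fin m ↪ GolayPt, (∀ i, x' i ∈ S) ∧ ∀ (i : Fin n) (j : Fin m), (i : ℕ) = j → x' j = x i := by
  intro n hn
  induction' hd : m - n with k ih generalizing n
  · obtain rfl : n = m := by omega
    exact fun x hx => ⟨x, hx, fun i j h => by rw [Fin.ext h]⟩
  · intro x hx
    obtain ⟨q, hq⟩ : (S \ Finset.univ.map x).Nonempty := by
      rw [← Finset.card_pos, Finset.card_sdiff_of_subset (fun p hp => by
        simp only [Finset.mem_map, Finset.mem_univ, true_and] at hp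
        obtain ⟨i, rfl⟩ := hp
        exact hx i), Finset.card_map, Finset.card_univ, Fintype.card_fin]
      omega
    simp only [Finset.mem_sdiff, Finset.mem_map, Finset.mem_univ, true_and] at hq
    obtain ⟨x', hx', he⟩ := ih (n := n + 1) (by omega) (by omega)
      ⟨Fin.snoc x q, Fin.snoc_injective_of_injective x.injective (by
        rintro ⟨i, hi⟩; exact hq.2 ⟨i, hi⟩)⟩
      (fun i => by
        induction i using Fin.lastCases with
        | last => simpa using hq.1
        | cast i => simpa using hx i)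
    refine ⟨x', hx', fun i j h => ?_⟩
    rw [he i.castSucc j (by simpa using h)]
    simp

theorem injective_triple {β : Type*} {a b c : β} (hab : a ≠ b) (hac : a ≠ c) (hbc : b ≠ c) :
    Function.Injective ![a, b, c] := by
  intro i j h
  fin_cases i <;> fin_cases j <;> simp_all

theorem injective_quad {β : Type*} {a b c e : β} (hab : a ≠ b) (hac : a ≠ c) (hae : a ≠ e)
    (hbc : b ≠ c) (hbe : b ≠ e) (hce : c ≠ e) : Function.Injective ![a, b, c, e] := by
  intro i j h
  fin_cases i <;> fin_cases j <;> simp_all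

/-! ### points -/

/-- The group of the code maps any at most five points to any others. -/
theorem exists_map_tuple {n : ℕ} (hn : n ≤ 5) (x y : Fin n ↪ GolayPt) :
    ∃ g ∈ M24, ∀ i, g (x i) = y i := by
  have h5 : (5 : ℕ) ≤ (Finset.univ : Finset GolayPt).card := by
    rw [Finset.card_univ, card_golayPt]; norm_num
  obtain ⟨x', -, hx⟩ := exists_extension _ h5 hn x (fun i => Finset.mem_univ _)
  obtain ⟨y', -, hy⟩ := exists_extension _ h5 hn y (fun i => Finset.mem_univ _)
  obtain ⟨g, hg, h⟩ := exists_map_five x' y'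
  refine ⟨g, hg, fun i => ?_⟩
  rw [← hx i ⟨i, lt_of_lt_of_le i.2 hn⟩ rfl, h, hy i ⟨i, lt_of_lt_of_le i.2 hn⟩ rfl]

theorem exists_map_one (p q : GolayPt) : ∃ g ∈ M24, g p = q := by
  obtain ⟨g, hg, h⟩ := exists_map_tuple (n := 1) (by norm_num)
    ⟨fun _ => p, Function.injective_of_subsingleton _⟩
    ⟨fun _ => q, Function.injective_of_subsingleton _⟩
  exact ⟨g, hg, h 0⟩

theorem exists_map_two {p q p' q' : GolayPt} (h : p ≠ q) (h' : p' ≠ q') :
    ∃ g ∈ M24, g p = p' ∧ g q = q' := by
  obtain ⟨g, hg, hi⟩ := exists_map_tuple (n := 2) (by norm_num)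
    ⟨![p, q], injective_pair_iff_ne.mpr h⟩ ⟨![p', q'], injective_pair_iff_ne.mpr h'⟩
  exact ⟨g, hg, hi 0, hi 1⟩

theorem exists_map_three {p q r p' q' r' : GolayPt} (h1 : p ≠ q) (h2 : p ≠ r) (h3 : q ≠ r)
    (h1' : p' ≠ q') (h2' : p' ≠ r') (h3' : q' ≠ r') :
    ∃ g ∈ M24, g p = p' ∧ g q = q' ∧ g r = r' := by
  obtain ⟨g, hg, hi⟩ := exists_map_tuple (n := 3) (by norm_num)
    ⟨![p, q, r], injective_triple h1 h2 h3⟩ ⟨![p', q', r'], injective_triple h1' h2' h3'⟩
  exact ⟨g, hg, hi 0, hi 1, hi 2⟩

theorem card_stab_point (p : GolayPt) :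
    Nat.card ↥(M24 ⊓ MulAction.stabilizer (Equiv.Perm GolayPt) p) = 10200960 := by
  have h := ncard_mul_card_inf M24 p (Set.univ : Set GolayPt) (fun _ _ => trivial)
    (fun q _ => exists_map_one p q)
  rw [Set.ncard_univ, Nat.card_eq_fintype_card (α := GolayPt), card_golayPt, card_M24] at h
  omega

theorem card_stab_two {p q : GolayPt} (hpq : p ≠ q) :
    Nat.card ↥(M24 ⊓ MulAction.stabilizer (Equiv.Perm GolayPt) p ⊓
      MulAction.stabilizer (Equiv.Perm GolayPt) q) = 443520 := by
  have h := ncard_mul_card_inf (M24 ⊓ MulAction.stabilizer (Equiv.Perm GolayPt) p) q {p}ᶜ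
    (fun g hg h' => hpq (g.injective ((hg.2 : g p = p).trans (h' : g q = p).symm)))
    (fun r hr => by
      obtain ⟨g, hg, h1, h2⟩ := exists_map_two hpq (Ne.symm hr)
      exact ⟨g, ⟨hg, h1⟩, h2⟩)
  rw [card_stab_point, Set.ncard_compl, Set.ncard_singleton,
    Nat.card_eq_fintype_card (α := GolayPt), card_golayPt] at h
  omega

theorem card_stab_three {p q r : GolayPt} (hpq : p ≠ q) (hpr : p ≠ r) (hqr : q ≠ r) :
    Nat.card ↥(M24 ⊓ MulAction.stabilizer (Equiv.Perm GolayPt) p ⊓
      MulAction.stabilizer (Equiv.Perm GolayPt) q ⊓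
      MulAction.stabilizer (Equiv.Perm GolayPt) r) = 20160 := by
  have h := ncard_mul_card_inf (M24 ⊓ MulAction.stabilizer (Equiv.Perm GolayPt) p ⊓
      MulAction.stabilizer (Equiv.Perm GolayPt) q) r {p, q}ᶜ
    (fun g hg h' => by
      rcases h' with h' | h'
      · exact hpr (g.injective ((hg.1.2 : g p = p).trans (h' : g r = p).symm))
      · exact hqr (g.injective ((hg.2 : g q = q).trans (h' : g r = q).symm)))
    (fun s hs => by
      simp only [Set.mem_compl_iff, Set.mem_insert_iff, Set.mem_singleton_iff, not_or] at hs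
      obtain ⟨g, hg, h1, h2, h3⟩ := exists_map_three hpq hpr hqr hpq (Ne.symm hs.1) (Ne.symm hs.2)
      exact ⟨g, ⟨⟨hg, h1⟩, h2⟩, h3⟩)
  rw [card_stab_two hpq, Set.ncard_compl, Set.ncard_pair hpq,
    Nat.card_eq_fintype_card (α := GolayPt), card_golayPt] at h
  omega

/-! ### the 48 elements fixing the five base points -/

/-- Codes of the elements fixing the five base points. -/
def fiveFixers : List ℕ := [
  984818244535754528103549039458486304,
  976531636853126291160407323722221600,
  972606645568131968584696805283956768,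
  965128854020860192151391391390468128,
  983141956895601025126892051911247904,
  980874226864350081512017426024335392,
  963721886883755259286232606933354528,
  980504394422866046962412236452235296,
  983271302155371035984055114495264800,
  979121071158219704299181131031480352,
  971828115858035635643548061566863392,
  969836898326968551397880902883313696,
  968708902336673183175954409307867168,
  981515887986994088769278604842469408,
  975728708050008715525885598301784096,
  967812279691448225500382947153381408,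
  975754295934893126319599781779965984,
  982125237077252311731715764534741024,
  971592882964418941354553515258775584,
  979037747421335847153138073498388512,
  966320096358733541442380578386184224,
  970499966350631336865513127433832480,
  966039336168793943308839874394687520,
  979416905286026856737440949975746592,
  976448692869377735270425038196672544,
  984559288045672395699075860841728032,
  961029066359601346093702817927759904,
  981818691054096003685363657089320992,
  968918221426309407724683958819063840,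
  967365292857695660364575527991871520,
  972512676110088067912772961567868960,
  961409415667826064667231448532617248,
  984436632068016323118584907140532256,
  966182099583441531322624363496310816,
  970452748381697609285226999098476576,
  971863989228759034920585190470420512,
  983548720921252936276249910206105632,
  965225113279737155758354497310656544,
  963582593757073591850928955785840672,
  975346028712660580592452217730074656,
  967738580936480664927891663448279072,
  968621477650857569167789942210922528,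
  980224387687010295957922729495201824,
  963515095949177277443875056653535264,
  964862721552653238424309835408443424,
  961365507626256404119956257276790816,
  972679049849814778609582601333213216,
  976909097487365034896521273070946336]

theorem fiveFixers_spec : (fiveFixers.all fun c => inM24 c &&
    [23, 0, 1, 2, 3].all fun i => Nat.beq (Computation.getW 5 c i) i) = true := by decide +kernel

theorem fiveFixers_complete : ∀ y ∈ baseOctad, ∀ z : GolayPt, z ∉ baseOctad →
    (∀ i, baseFive i ≠ y) → ∃ c ∈ fiveFixers, imgCode c basePt6 = y ∧ imgCode c basePt7 = z := by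
  decide +kernel

theorem exists_fiveFixer {g : Equiv.Perm GolayPt} (hg : g ∈ M24)
    (h : ∀ i, g (baseFive i) = baseFive i) : ∃ c ∈ fiveFixers, g = gperm c := by
  have ho : g • baseOctad = baseOctad := by
    refine smul_octad_eq hg baseOctad_mem (s := rangeOf baseFive) (by simp [rangeOf]) ?_ ?_ <;>
      intro p hp <;> simp only [rangeOf, Finset.mem_map, Finset.mem_univ, true_and] at hp <;>
      obtain ⟨i, rfl⟩ := hp
    exacts [baseFive_mem i, h i]
  have h1 : g basePt6 ∈ baseOctad := by
    rw [← ho]; exact Finset.mem_smul_finset.mpr ⟨_, basePt6_mem.1, rfl⟩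
  have h2 : g basePt7 ∉ baseOctad := by
    conv in baseOctad => rw [← ho]
    exact fun hm => basePt7_notMem ((Finset.smul_mem_smul_finset_iff g).mp hm)
  obtain ⟨c, hc, h6, h7⟩ := fiveFixers_complete _ h1 _ h2
    (fun i hi => basePt6_mem.2 i (g.injective ((h i).trans hi)))
  have hspec := List.all_eq_true.mp fiveFixers_spec c hc
  simp only [Bool.and_eq_true, List.all_eq_true, Nat.beq_eq] at hspec
  have hok := okCode_of_inM24 hspec.1
  refine ⟨c, hc, eq_of_base hg (gperm_mem_M24 hspec.1) (fun i => ?_) ?_ ?_⟩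
  · rw [h i]
    apply idx_injective
    rw [idx_gperm hok, hspec.2]
    revert i
    decide +kernel
  · rw [gperm_apply hok, h6]
  · rw [gperm_apply hok, h7]

/-! ### dodecads -/

/-- The mask of the five base points. -/
def fiveMask : ℕ := 8388623

theorem fiveMask_spec : setOfMask fiveMask = rangeOf baseFive := by decide +kernel

theorem dodecad_free :
    (((masksOfWeight 12).filter fun m => Nat.beq (m &&& fiveMask) fiveMask).all fun m =>
      fiveFixers.all fun c => Nat.beq c oneCode || !Nat.beq (permMask c m) m) = true := by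
  decide +kernel

theorem eq_one_of_fixes_dodecad {g : Equiv.Perm GolayPt} (hg : g ∈ M24) {d : Finset GolayPt}
    (hd : d ∈ dodecads) (hgd : g • d = d) (x : Fin 5 ↪ GolayPt) (hx : ∀ i, x i ∈ d)
    (hgx : ∀ i, g (x i) = x i) : g = 1 := by
  obtain ⟨a, ha, hax⟩ := exists_mem_of_five x
  have hconj : a⁻¹ * g * a ∈ M24 :=
    Subgroup.mul_mem _ (Subgroup.mul_mem _ (Subgroup.inv_mem _ ha) hg) ha
  have hfix : ∀ i, (a⁻¹ * g * a) (baseFive i) = baseFive i := fun i => by
    rw [Equiv.Perm.mul_apply, Equiv.Perm.mul_apply, hax, hgx, ← hax i, Equiv.Perm.inv_def,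
      Equiv.symm_apply_apply]
  obtain ⟨c, hc, he⟩ := exists_fiveFixer hconj hfix
  obtain ⟨m, hm, hmd⟩ := mem_wordsOfWeight_iff.mp
    (smul_mem_dodecads (Subgroup.inv_mem _ ha) hd)
  have hspec := List.all_eq_true.mp fiveFixers_spec c hc
  simp only [Bool.and_eq_true] at hspec
  have hlt : m < 2 ^ 24 := by
    obtain ⟨k, hk, rfl⟩ := inCode_iff.mp (mem_masksOfWeight.mp hm).1
    exact enc_lt hk
  have hsub : m &&& fiveMask = fiveMask := by
    refine Nat.eq_of_testBit_eq fun i => ?_
    rw [Nat.testBit_and]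
    cases hf : fiveMask.testBit i with
    | false => simp
    | true =>
      have hi : i < 24 := by
        by_contra hi
        have : fiveMask < 2 ^ i := lt_of_lt_of_le (by decide) (Nat.pow_le_pow_right (by norm_num) (not_lt.mp hi))
        rw [Nat.testBit_lt_two_pow this] at hf
        simp at hf
      have : pt i ∈ rangeOf baseFive := by
        rw [← fiveMask_spec, mem_setOfMask, idx_pt hi]; exact hf
      simp only [rangeOf, Finset.mem_map, Finset.mem_univ, true_and] at this
      obtain ⟨j, hj⟩ := this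
      have : pt i ∈ setOfMask m := by
        rw [← hmd, ← Finset.inv_smul_mem_iff, inv_inv, Equiv.Perm.smul_def, ← hj, hax]
        exact hx j
      rw [mem_setOfMask, idx_pt hi] at this
      simp [this]
  have h := List.all_eq_true.mp dodecad_free m
    (List.mem_filter.mpr ⟨hm, by rw [hsub]; exact Nat.beq_refl _⟩)
  have h' := List.all_eq_true.mp h c hc
  simp only [Bool.or_eq_true, Nat.beq_eq, Bool.not_eq_true', Bool.eq_false_iff, ne_eq] at h'
  rcases h' with rfl | h'
  · rw [gperm_oneCode] at he
    calc g = a * (a⁻¹ * g * a) * a⁻¹ := by group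
      _ = 1 := by rw [he]; group
  · refine absurd ?_ h'
    refine mask_eq_of_smul_eq (okCode_of_inM24 hspec.1) hlt ?_
    rw [← he, ← hmd, mul_smul, mul_smul, smul_inv_smul, hgd]

/-- The stabiliser of a dodecad. -/
def dodecadStab (d : Finset GolayPt) : Subgroup (Equiv.Perm GolayPt) :=
  M24 ⊓ MulAction.stabilizer (Equiv.Perm GolayPt) d

theorem mem_dodecadStab {d : Finset GolayPt} {g : Equiv.Perm GolayPt} :
    g ∈ dodecadStab d ↔ g ∈ M24 ∧ g • d = d := Iff.rfl

theorem apply_mem_iff_of_stab {d : Finset GolayPt} {g : Equiv.Perm GolayPt}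
    (hg : g ∈ dodecadStab d) (p : GolayPt) : g p ∈ d ↔ p ∈ d := by
  conv_lhs => rw [← (mem_dodecadStab.mp hg).2, ← Equiv.Perm.smul_def]
  exact Finset.smul_mem_smul_finset_iff g

/-- Five points inside a given set. -/
abbrev Tuples (d : Finset GolayPt) : Type := Fin 5 ↪ {p : GolayPt // p ∈ d}

theorem card_tuples {d : Finset GolayPt} (hd : d ∈ dodecads) : Fintype.card (Tuples d) = 95040 := by
  rw [Fintype.card_embedding_eq, Fintype.card_coe, Fintype.card_fin, hd.2]
  decide +kernel

/-- An injective tuple of five points of a dodecad. -/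
theorem exists_tuple {d : Finset GolayPt} (hd : d ∈ dodecads) : Nonempty (Tuples d) := by
  rw [← Fintype.card_pos_iff, card_tuples hd]
  norm_num

/-- The image of a tuple. -/
def tupleMap {d : Finset GolayPt} (x : Tuples d) (g : dodecadStab d) : Tuples d :=
  ⟨fun i => ⟨(g : Equiv.Perm GolayPt) (x i), (apply_mem_iff_of_stab g.2 _).mpr (x i).2⟩,
    fun i j h => x.injective (Subtype.ext ((g : Equiv.Perm GolayPt).injective (Subtype.ext_iff.mp h)))⟩

theorem tupleMap_injective {d : Finset GolayPt} (hd : d ∈ dodecads) (x : Tuples d) :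
    Function.Injective (tupleMap x) := by
  intro g h hgh
  have hi : ∀ i, (g : Equiv.Perm GolayPt) (x i) = (h : Equiv.Perm GolayPt) (x i) := fun i =>
    congrArg Subtype.val (DFunLike.congr_fun hgh i)
  have h1 : (h : Equiv.Perm GolayPt)⁻¹ * g = 1 := by
    have hm := Subgroup.mul_mem _ (Subgroup.inv_mem _ h.2) g.2
    refine eq_one_of_fixes_dodecad (mem_dodecadStab.mp hm).1 hd (mem_dodecadStab.mp hm).2
      (x.trans (Function.Embedding.subtype _)) (fun i => (x i).2) (fun i => ?_)
    simp [Equiv.Perm.mul_apply, hi]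
  exact Subtype.ext (inv_mul_eq_one.mp h1).symm

theorem card_dodecadStab_and_orbit {d : Finset GolayPt} (hd : d ∈ dodecads) :
    Nat.card (dodecadStab d) = 95040 ∧ MulAction.orbit M24 d = dodecads := by
  obtain ⟨x⟩ := exists_tuple hd
  have hle : Nat.card (dodecadStab d) ≤ 95040 := by
    refine (Nat.card_le_card_of_injective _ (tupleMap_injective hd x)).trans ?_
    rw [Nat.card_eq_fintype_card, card_tuples hd]
  have hsub : MulAction.orbit M24 d ⊆ dodecads := by
    rintro _ ⟨g, rfl⟩; exact smul_mem_dodecads g.2 hd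
  have horb : (MulAction.orbit M24 d).ncard ≤ 2576 :=
    ncard_dodecads ▸ Set.ncard_le_ncard hsub (Set.toFinite _)
  have h := ncard_orbit_mul_card_inf M24 d
  rw [card_M24] at h
  change _ * Nat.card (dodecadStab d) = _ at h
  have h1 : (MulAction.orbit M24 d).ncard * Nat.card (dodecadStab d) ≤
      (MulAction.orbit M24 d).ncard * 95040 := Nat.mul_le_mul_left _ hle
  have h2 : (MulAction.orbit M24 d).ncard = 2576 := by omega
  refine ⟨by rw [h2] at h; omega, ?_⟩
  exact Set.eq_of_subset_of_ncard_le hsub (by rw [ncard_dodecads, h2]) (Set.toFinite _)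

theorem card_dodecadStab {d : Finset GolayPt} (hd : d ∈ dodecads) :
    Nat.card (dodecadStab d) = 95040 := (card_dodecadStab_and_orbit hd).1

theorem transitive_dodecads {d d' : Finset GolayPt} (hd : d ∈ dodecads) (hd' : d' ∈ dodecads) :
    ∃ g ∈ M24, g • d = d' := by
  rw [← (card_dodecadStab_and_orbit hd).2] at hd'
  obtain ⟨g, rfl⟩ := hd'
  exact ⟨g, g.2, rfl⟩

/-- Sharp 5-transitivity of a dodecad stabiliser on its dodecad. -/
theorem dodecad_exists_unique {d : Finset GolayPt} (hd : d ∈ dodecads) (x y : Fin 5 ↪ GolayPt)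
    (hx : ∀ i, x i ∈ d) (hy : ∀ i, y i ∈ d) :
    ∃! g : dodecadStab d, ∀ i, (g : Equiv.Perm GolayPt) (x i) = y i := by
  let x' : Tuples d := ⟨fun i => ⟨x i, hx i⟩, fun i j h => x.injective (Subtype.ext_iff.mp h)⟩
  let y' : Tuples d := ⟨fun i => ⟨y i, hy i⟩, fun i j h => y.injective (Subtype.ext_iff.mp h)⟩
  have hb : Function.Bijective (tupleMap x') :=
    (Nat.bijective_iff_injective_and_card _).mpr ⟨tupleMap_injective hd x',
      by rw [card_dodecadStab hd, Nat.card_eq_fintype_card, card_tuples hd]⟩
  obtain ⟨g, hg, hu⟩ := hb.existsUnique y'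
  refine ⟨g, fun i => congrArg Subtype.val (DFunLike.congr_fun hg i), fun g' hg' => hu g' ?_⟩
  exact DFunLike.ext _ _ fun i => Subtype.ext (hg' i)

/-- A dodecad stabiliser maps any at most five points of the dodecad to any others. -/
theorem dodecad_map_tuple {d : Finset GolayPt} (hd : d ∈ dodecads) {n : ℕ} (hn : n ≤ 5)
    (x y : Fin n ↪ GolayPt) (hx : ∀ i, x i ∈ d) (hy : ∀ i, y i ∈ d) :
    ∃ g ∈ dodecadStab d, ∀ i, g (x i) = y i := by
  have h5 : (5 : ℕ) ≤ d.card := by rw [hd.2]; norm_num
  obtain ⟨x', hx', hxe⟩ := exists_extension d h5 hn x hx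
  obtain ⟨y', hy', hye⟩ := exists_extension d h5 hn y hy
  obtain ⟨g, hg, -⟩ := dodecad_exists_unique hd x' y' hx' hy'
  refine ⟨g, g.2, fun i => ?_⟩
  rw [← hxe i ⟨i, lt_of_lt_of_le i.2 hn⟩ rfl, hg, hye i ⟨i, lt_of_lt_of_le i.2 hn⟩ rfl]

theorem compl_mem_dodecads {d : Finset GolayPt} (hd : d ∈ dodecads) : dᶜ ∈ dodecads := by
  refine ⟨?_, by rw [Finset.card_compl, hd.2, card_golayPt]⟩
  have : dᶜ = symmDiff d Finset.univ := by ext p; simp [Finset.mem_symmDiff]
  rw [this]
  exact supports_symmDiff hd.1 univ_mem_supports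

theorem dodecadStab_compl (d : Finset GolayPt) : dodecadStab dᶜ = dodecadStab d := by
  have key : ∀ (e : Finset GolayPt) (g : Equiv.Perm GolayPt), g • e = e → g • eᶜ = eᶜ := by
    intro e g he
    ext p
    rw [← Finset.inv_smul_mem_iff, Finset.mem_compl, Finset.mem_compl, Finset.inv_smul_mem_iff, he]
  ext g
  exact ⟨fun h => ⟨h.1, show g • d = d by
      have := key _ g (mem_dodecadStab.mp h).2
      rwa [compl_compl] at this⟩,
    fun h => ⟨h.1, key _ g (mem_dodecadStab.mp h).2⟩⟩

theorem card_dodecadPointStab {d : Finset GolayPt} (hd : d ∈ dodecads) {p : GolayPt} (hp : p ∈ d) :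
    Nat.card ↥(dodecadStab d ⊓ MulAction.stabilizer (Equiv.Perm GolayPt) p) = 7920 := by
  have h := ncard_mul_card_inf (dodecadStab d) p (d : Set GolayPt)
    (fun g hg => (apply_mem_iff_of_stab hg p).mpr hp)
    (fun q hq => by
      obtain ⟨g, hg, hgi⟩ := dodecad_map_tuple hd (n := 1) (by norm_num)
        ⟨fun _ => p, Function.injective_of_subsingleton _⟩
        ⟨fun _ => q, Function.injective_of_subsingleton _⟩ (fun _ => hp) (fun _ => hq)
      exact ⟨g, hg, hgi 0⟩)
  rw [Set.ncard_coe_finset, hd.2, card_dodecadStab hd] at h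
  omega

theorem squareDodecad_eq : Spor.squareDodecad = setOfMask (qrMask 0) := by
  rw [Spor.squareDodecad, qrWord_eq, support₂_wordOfMask]
  rfl

theorem squareDodecad_mem : Spor.squareDodecad ∈ dodecads := by
  rw [squareDodecad_eq]
  refine ⟨setOfMask_mem_supports (by decide +kernel), ?_⟩
  rw [card_setOfMask]
  decide +kernel

/-- Three points outside the dodecad of squares. -/
def outsideTriple : Fin 3 ↪ GolayPt :=
  ⟨![pt 5, pt 7, pt 10], by decide +kernel⟩

/-- Elements fixing the dodecad of squares and the three points, one for each point of it. -/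
def tripleFixers : List ℕ := [
  984818244535754528103549039458486304,
  653849561601035364120508694752792673,
  819715746016702811472730527087201666,
  980884843440823161215301923278686243,
  901648874835838677602128033797419076,
  983441595554074131277766718700931494,
  898894490379444725838312473133390344,
  940679742713965326745884696982766153,
  734009886605896437818726842368132204,
  612229012331012624393924768067757261,
  652109422496933233035477459382088912,
  902749296815143758634426137708861970]

theorem tripleFixers_spec : (tripleFixers.all fun c => inM24 c &&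
    Nat.beq (permMask c (qrMask 0)) (qrMask 0) &&
    [5, 7, 10].all fun i => Nat.beq (Computation.getW 5 c i) i) = true := by decide +kernel

theorem tripleFixers_complete : ∀ q : GolayPt, q ∈ setOfMask (qrMask 0) →
    ∃ c ∈ tripleFixers, imgCode c (some 0) = q := by decide +kernel

theorem tripleFixers_mem {c : ℕ} (hc : c ∈ tripleFixers) :
    gperm c ∈ dodecadStab Spor.squareDodecad ∧ ∀ i, gperm c (outsideTriple i) = outsideTriple i := by
  have h := List.all_eq_true.mp tripleFixers_spec c hc
  simp only [Bool.and_eq_true, List.all_eq_true, Nat.beq_eq] at h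
  have hok := okCode_of_inM24 h.1.1
  refine ⟨⟨gperm_mem_M24 h.1.1, ?_⟩, fun i => idx_injective ?_⟩
  · show gperm c • Spor.squareDodecad = Spor.squareDodecad
    rw [squareDodecad_eq, smul_setOfMask hok, h.1.2]
  · rw [idx_gperm hok, h.2]
    revert i
    decide +kernel

/-- The stabiliser of a dodecad and of a triple outside it is transitive on the dodecad. -/
theorem triple_transitive {d : Finset GolayPt} (hd : d ∈ dodecads) (x : Fin 3 ↪ GolayPt)
    (hx : ∀ i, x i ∉ d) {p q : GolayPt} (hp : p ∈ d) (hq : q ∈ d) :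
    ∃ g ∈ dodecadStab d, (∀ i, g (x i) = x i) ∧ g p = q := by
  obtain ⟨a, ha, had⟩ := transitive_dodecads squareDodecad_mem hd
  obtain ⟨b, hb, hbx⟩ := dodecad_map_tuple (compl_mem_dodecads hd) (by norm_num)
    (outsideTriple.trans a.toEmbedding) x
    (fun i => by
      rw [Finset.mem_compl]
      intro hm
      rw [Function.Embedding.trans_apply, Equiv.toEmbedding_apply, ← had, ← Equiv.Perm.smul_def,
        Finset.smul_mem_smul_finset_iff] at hm
      revert hm
      rw [squareDodecad_eq]
      revert i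
      decide +kernel)
    (fun i => Finset.mem_compl.mpr (hx i))
  rw [dodecadStab_compl] at hb
  have hcd : (b * a) • Spor.squareDodecad = d := by
    rw [mul_smul, had]; exact (mem_dodecadStab.mp hb).2
  have hcM : b * a ∈ M24 := Subgroup.mul_mem _ (mem_dodecadStab.mp hb).1 ha
  have hcx : ∀ i, (b * a) (outsideTriple i) = x i := hbx
  generalize b * a = f at hcd hcM hcx
  have hback : ∀ r ∈ d, f⁻¹ r ∈ setOfMask (qrMask 0) := fun r hr => by
    rw [← squareDodecad_eq, ← Equiv.Perm.smul_def, Finset.inv_smul_mem_iff, hcd]; exact hr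
  obtain ⟨c, hc, hcp⟩ := tripleFixers_complete _ (hback p hp)
  obtain ⟨c', hc', hcq⟩ := tripleFixers_complete _ (hback q hq)
  obtain ⟨hs, hf⟩ := tripleFixers_mem hc
  obtain ⟨hs', hf'⟩ := tripleFixers_mem hc'
  have hok : ∀ e ∈ tripleFixers, okCode e = true := fun e he => by
    have h := List.all_eq_true.mp tripleFixers_spec e he
    simp only [Bool.and_eq_true] at h
    exact okCode_of_inM24 h.1.1
  have hk : gperm c' * (gperm c)⁻¹ ∈ dodecadStab Spor.squareDodecad :=
    Subgroup.mul_mem _ hs' (Subgroup.inv_mem _ hs)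
  refine ⟨f * (gperm c' * (gperm c)⁻¹) * f⁻¹, ⟨Subgroup.mul_mem _ (Subgroup.mul_mem _ hcM
    (mem_dodecadStab.mp hk).1) (Subgroup.inv_mem _ hcM), ?_⟩, fun i => ?_, ?_⟩
  · change (f * (gperm c' * (gperm c)⁻¹) * f⁻¹) • d = d
    rw [mul_smul _ f⁻¹, show f⁻¹ • d = Spor.squareDodecad from inv_smul_eq_iff.mpr hcd.symm,
      mul_smul, (mem_dodecadStab.mp hk).2, hcd]
  · have h1 : f⁻¹ (x i) = outsideTriple i := by
      rw [← hcx i, Equiv.Perm.inv_def, Equiv.symm_apply_apply]
    have h2 : (gperm c)⁻¹ (outsideTriple i) = outsideTriple i := by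
      conv_lhs => rw [← hf i]
      rw [Equiv.Perm.inv_def, Equiv.symm_apply_apply]
    simp only [Equiv.Perm.mul_apply, h1, h2, hf', hcx]
  · have h2 : (gperm c)⁻¹ (f⁻¹ p) = some 0 := by
      rw [← hcp, ← gperm_apply (hok c hc), Equiv.Perm.inv_def (gperm c), Equiv.symm_apply_apply]
    simp only [Equiv.Perm.mul_apply, h2, gperm_apply (hok c' hc'), hcq]
    rw [Equiv.Perm.inv_def, Equiv.apply_symm_apply]

/-- A dodecad-and-point stabiliser is 3-transitive outside the dodecad. -/
theorem pointStab_three_transitive {d : Finset GolayPt} (hd : d ∈ dodecads) {p : GolayPt}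
    (hp : p ∈ d) (x y : Fin 3 ↪ GolayPt) (hx : ∀ i, x i ∉ d) (hy : ∀ i, y i ∉ d) :
    ∃ g ∈ dodecadStab d, g p = p ∧ ∀ i, g (x i) = y i := by
  obtain ⟨b, hb, hbx⟩ := dodecad_map_tuple (compl_mem_dodecads hd) (by norm_num) x y
    (fun i => Finset.mem_compl.mpr (hx i)) (fun i => Finset.mem_compl.mpr (hy i))
  rw [dodecadStab_compl] at hb
  obtain ⟨l, hl, hly, hlp⟩ := triple_transitive hd y hy ((apply_mem_iff_of_stab hb p).mpr hp) hp
  exact ⟨l * b, Subgroup.mul_mem _ hl hb, hlp, fun i => by
    rw [Equiv.Perm.mul_apply, hbx, hly]⟩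

/-! ### the pointwise stabiliser of an octad -/

theorem octadFixers_spec : (fiveFixers.all fun c =>
    !(List.range 24).all (fun i => !(8536111 : ℕ).testBit i || Nat.beq (Computation.getW 5 c i) i) ||
      Nat.beq (Computation.mulP 24 5 c c) oneCode) = true := by decide +kernel

/-- The elements fixing an octad pointwise. -/
def octadFix (o : Finset GolayPt) : Subgroup (Equiv.Perm GolayPt) :=
  M24 ⊓ fixingSubgroup (Equiv.Perm GolayPt) (o : Set GolayPt)

theorem mem_octadFix {o : Finset GolayPt} {g : Equiv.Perm GolayPt} :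
    g ∈ octadFix o ↔ g ∈ M24 ∧ ∀ p ∈ o, g p = p := by
  rw [octadFix, Subgroup.mem_inf, mem_fixingSubgroup_iff]
  rfl

theorem baseOctad_fixed_iff : ∀ c ∈ fiveFixers,
    (imgCode c basePt6 = basePt6 ↔ ∀ p ∈ baseOctad, imgCode c p = p) := by decide +kernel

theorem card_octadFix_base : Nat.card (octadFix baseOctad) = 16 := by
  have hmap : ∀ g : octadFix baseOctad, (g : Equiv.Perm GolayPt) basePt7 ∈ baseOctadᶜ := fun g => by
    rw [Finset.mem_compl]
    intro hm
    have := (mem_octadFix.mp g.2).2 _ hm
    exact basePt7_notMem ((g : Equiv.Perm GolayPt).injective this ▸ hm)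
  have hb : Function.Bijective
      (fun g : octadFix baseOctad => (⟨_, hmap g⟩ : {z // z ∈ baseOctadᶜ})) := by
    constructor
    · intro g h hgh
      obtain ⟨hg, hgf⟩ := mem_octadFix.mp g.2
      obtain ⟨hh, hhf⟩ := mem_octadFix.mp h.2
      refine Subtype.ext (eq_of_base hg hh (fun i => ?_) ?_ (congrArg Subtype.val hgh))
      · rw [hgf _ (baseFive_mem i), hhf _ (baseFive_mem i)]
      · rw [hgf _ basePt6_mem.1, hhf _ basePt6_mem.1]
    · rintro ⟨z, hz⟩
      rw [Finset.mem_compl] at hz
      obtain ⟨c, hc, h6, h7⟩ := fiveFixers_complete _ basePt6_mem.1 z hz basePt6_mem.2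
      have hspec := List.all_eq_true.mp fiveFixers_spec c hc
      simp only [Bool.and_eq_true] at hspec
      have hok := okCode_of_inM24 hspec.1
      refine ⟨⟨gperm c, mem_octadFix.mpr ⟨gperm_mem_M24 hspec.1, fun p hp => ?_⟩⟩,
        Subtype.ext ?_⟩
      · rw [gperm_apply hok]; exact (baseOctad_fixed_iff c hc).mp h6 p hp
      · change gperm c basePt7 = z
        rw [gperm_apply hok, h7]
  rw [Nat.card_eq_of_bijective _ hb, Nat.card_eq_finsetCard, Finset.card_compl, baseOctad_mem.2,
    card_golayPt]

theorem octadFix_base_sq {g : Equiv.Perm GolayPt} (hg : g ∈ octadFix baseOctad) : g * g = 1 := by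
  obtain ⟨hgM, hgf⟩ := mem_octadFix.mp hg
  obtain ⟨c, hc, rfl⟩ := exists_fiveFixer hgM fun i => hgf _ (baseFive_mem i)
  have hspec := List.all_eq_true.mp fiveFixers_spec c hc
  simp only [Bool.and_eq_true] at hspec
  have hok := okCode_of_inM24 hspec.1
  have h := List.all_eq_true.mp octadFixers_spec c hc
  simp only [Bool.or_eq_true, Bool.not_eq_true', Nat.beq_eq] at h
  rcases h with h | h
  · rw [List.all_eq_false] at h
    obtain ⟨i, hi, hne⟩ := h
    simp only [Bool.or_eq_true, Bool.not_eq_true', Nat.beq_eq, not_or, Bool.not_eq_false] at hne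
    rw [List.mem_range] at hi
    refine absurd ?_ hne.2
    have := hgf (pt i) (mem_setOfMask.mpr (by rw [idx_pt hi]; exact hne.1))
    have h2 := congrArg idx this
    rwa [idx_gperm hok, idx_pt hi] at h2
  · rw [← gperm_mul hok hok, h, gperm_oneCode]

theorem octadFix_conj {o o' : Finset GolayPt} {a : Equiv.Perm GolayPt} (ha : a ∈ M24)
    (hao : a • o = o') : octadFix o' = (octadFix o).map (MulAut.conj a).toMonoidHom := by
  ext g
  simp only [Subgroup.mem_map, mem_octadFix]
  constructor
  · rintro ⟨hg, hf⟩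
    refine ⟨a⁻¹ * g * a, ⟨Subgroup.mul_mem _ (Subgroup.mul_mem _ (Subgroup.inv_mem _ ha) hg) ha,
      fun p hp => ?_⟩, by simp [mul_assoc]⟩
    have : a p ∈ o' := hao ▸ Finset.mem_smul_finset.mpr ⟨p, hp, rfl⟩
    rw [Equiv.Perm.mul_apply, Equiv.Perm.mul_apply, hf _ this, Equiv.Perm.inv_def,
      Equiv.symm_apply_apply]
  · rintro ⟨h, ⟨hh, hf⟩, rfl⟩
    refine ⟨Subgroup.mul_mem _ (Subgroup.mul_mem _ ha hh) (Subgroup.inv_mem _ ha), fun p hp => ?_⟩
    rw [← hao] at hp
    obtain ⟨q, hq, rfl⟩ := Finset.mem_smul_finset.mp hp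
    simp [hf q hq]

theorem octadFix_spec {o : Finset GolayPt} (ho : o ∈ octads) :
    Nat.card (octadFix o) = 16 ∧ ∀ g ∈ octadFix o, g * g = 1 := by
  obtain ⟨a, ha, hao⟩ := transitive_octads baseOctad_mem ho
  rw [octadFix_conj ha hao]
  refine ⟨by rw [Subgroup.card_map_of_injective (MulEquiv.injective _), card_octadFix_base], ?_⟩
  rintro _ ⟨g, hg, rfl⟩
  rw [← map_mul, octadFix_base_sq hg, map_one]

end Cfsg.Agent.Lib.Golay
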