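import Cfsg.Agent.Lib.Golay.Stabilizers
import Cfsg.Agent.Lib.Golay.SmallCert

/-!
# Simplicity of the five Mathieu groups

M23, M22 and M11 are generated by two elements of a prime order `p` dividing the degree only once
the order; in a 2-transitive group this forces simplicity.  M24 and M12 are transitive extensions
of M23 and M11 of degrees that are not prime powers.
-/

set_option autoImplicit false

namespace Cfsg.Agent.Lib.Golay

open Cfsg
open scoped Pointwise

/-! ### two criteria -/

/-- A 2-transitive group on a set of points `S` in which no non-identity element fixes `S`. -/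
structure TwoTransOn (H : Subgroup (Equiv.Perm GolayPt)) (S : Finset GolayPt) : Prop where
  stable : ∀ h ∈ H, ∀ x ∈ S, h x ∈ S
  two : ∀ x ∈ S, ∀ y ∈ S, ∀ z ∈ S, x ≠ y → x ≠ z → ∃ h ∈ H, h x = x ∧ h y = z
  faithful : ∀ h ∈ H, (∀ x ∈ S, h x = x) → h = 1

variable {H : Subgroup (Equiv.Perm GolayPt)} {S : Finset GolayPt}

theorem TwoTransOn.transitive_of_normal (T : TwoTransOn H S) (N : Subgroup H) [N.Normal]
    (hN : N ≠ ⊥) : ∀ x ∈ S, ∀ y ∈ S, ∃ n ∈ N, ((n : H) : Equiv.Perm GolayPt) x = y := by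
  obtain ⟨n, hn, hn1⟩ : ∃ n ∈ N, n ≠ 1 := (Subgroup.ne_bot_iff_exists_ne_one.mp hN).elim
    fun n hn => ⟨n, n.2, fun h => hn (Subtype.ext h)⟩
  obtain ⟨a, ha, hna⟩ : ∃ a ∈ S, (n : Equiv.Perm GolayPt) a ≠ a := by
    by_contra hc
    push Not at hc
    exact hn1 (Subtype.ext (T.faithful _ n.2 hc))
  have hall : ∀ y ∈ S, ∃ m ∈ N, ((m : H) : Equiv.Perm GolayPt) a = y := by
    intro y hy
    rcases eq_or_ne a y with rfl | hay
    · exact ⟨1, N.one_mem, rfl⟩
    · obtain ⟨h, hh, ha', hy'⟩ := T.two a ha _ (T.stable _ n.2 a ha) y hy (Ne.symm hna) hay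
      refine ⟨⟨h, hh⟩ * n * (⟨h, hh⟩ : H)⁻¹, Subgroup.Normal.conj_mem ‹_› n hn _, ?_⟩
      have : h.symm a = a := by conv_lhs => rw [← ha', Equiv.symm_apply_apply]
      simp [Equiv.Perm.mul_apply, Equiv.Perm.inv_def, this, hy']
  intro x hx y hy
  obtain ⟨m, hm, hmx⟩ := hall x hx
  obtain ⟨m', hm', hmy⟩ := hall y hy
  refine ⟨m' * m⁻¹, N.mul_mem hm' (N.inv_mem hm), ?_⟩
  have : (m : Equiv.Perm GolayPt).symm x = a := by rw [← hmx, Equiv.symm_apply_apply]
  simp [Equiv.Perm.mul_apply, Equiv.Perm.inv_def, this, hmy]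

theorem TwoTransOn.card_of_normal (T : TwoTransOn H S) (N : Subgroup H) [N.Normal] (hN : N ≠ ⊥)
    {x : GolayPt} (hx : x ∈ S) :
    S.card * Nat.card ↥(N.map H.subtype ⊓ MulAction.stabilizer (Equiv.Perm GolayPt) x) =
      Nat.card N := by
  have h := ncard_mul_card_inf (N.map H.subtype) x (S : Set GolayPt)
    (by rintro _ ⟨n, -, rfl⟩; exact T.stable _ n.2 x hx)
    (fun y hy => by
      obtain ⟨n, hn, hxy⟩ := T.transitive_of_normal N hN x hx y hy
      exact ⟨_, ⟨n, hn, rfl⟩, hxy⟩)
  rwa [Set.ncard_coe_finset, Subgroup.card_map_of_injective H.subtype_injective] at h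

theorem nontrivial_of_twoTrans (T : TwoTransOn H S) (hS : 2 < S.card) : Nontrivial H := by
  obtain ⟨x, hx, y, hy, z, hz, hxy, hxz, hyz⟩ := Finset.two_lt_card.mp hS
  obtain ⟨h, hh, -, hyz'⟩ := T.two x hx y hy z hz hxy hxz
  refine ⟨⟨h, hh⟩, 1, fun he => hyz ?_⟩
  have : h = 1 := congrArg Subtype.val he
  rw [← hyz', this]
  rfl

/-- First criterion: generation by elements of prime order `p` with `p ∣ |S|`, `p² ∤ |H|`. -/
theorem isSimple_of_prime (T : TwoTransOn H S) (hS : 2 < S.card) {p : ℕ} (hp : p.Prime)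
    (hpS : p ∣ S.card) (hp2 : ¬ p ^ 2 ∣ Nat.card H) (gens : Set (Equiv.Perm GolayPt))
    (hgen : H = Subgroup.closure gens) (hord : ∀ g ∈ gens, g ^ p = 1) : IsSimpleGroup H := by
  have := nontrivial_of_twoTrans T hS
  refine ⟨fun N hN => ?_⟩
  by_cases hbot : N = ⊥
  · exact Or.inl hbot
  refine Or.inr ?_
  obtain ⟨x, hx⟩ : S.Nonempty := Finset.card_pos.mp (by omega)
  have hdvd : p ∣ Nat.card N := hpS.trans (T.card_of_normal N hbot hx ▸ Dvd.intro _ rfl)
  have hidx : ¬ p ∣ N.index := fun h => hp2 (by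
    rw [← Subgroup.card_mul_index N, sq]; exact Nat.mul_dvd_mul hdvd h)
  rw [eq_top_iff]
  rintro ⟨g, hg⟩ -
  have hmem : g ∈ N.map H.subtype := by
    suffices h : H ≤ N.map H.subtype from h hg
    conv_lhs => rw [hgen]
    rw [Subgroup.closure_le]
    intro a ha
    have haH : a ∈ H := hgen ▸ Subgroup.subset_closure ha
    refine ⟨⟨a, haH⟩, ?_, rfl⟩
    rw [SetLike.mem_coe, ← QuotientGroup.eq_one_iff, ← orderOf_eq_one_iff]
    have h1 : orderOf ((⟨a, haH⟩ : H) : H ⧸ N) ∣ p := by
      refine orderOf_dvd_of_pow_eq_one ?_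
      rw [← QuotientGroup.mk_pow, QuotientGroup.eq_one_iff]
      exact (Subtype.ext (hord a ha) : (⟨a, haH⟩ : H) ^ p = 1) ▸ N.one_mem
    rcases (Nat.dvd_prime hp).mp h1 with h | h
    · exact h
    · exact absurd (by rw [← h, Subgroup.index]; exact orderOf_dvd_natCard _) hidx
  obtain ⟨a, ha, he⟩ := hmem
  exact (Subtype.ext he : a = ⟨g, hg⟩) ▸ ha

/-- Second criterion: a simple point stabiliser and a degree with two prime divisors. -/
theorem isSimple_of_pointStab (T : TwoTransOn H S) (hS : 2 < S.card) {x : GolayPt} (hx : x ∈ S)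
    (hsimple : IsSimpleGroup ↥(H ⊓ MulAction.stabilizer (Equiv.Perm GolayPt) x)) {p q : ℕ}
    (hp : p.Prime) (hq : q.Prime) (hpq : p ≠ q) (hpS : p ∣ S.card) (hqS : q ∣ S.card) :
    IsSimpleGroup H := by
  have := nontrivial_of_twoTrans T hS
  refine ⟨fun N hN => ?_⟩
  by_cases hbot : N = ⊥
  · exact Or.inl hbot
  let K := H ⊓ MulAction.stabilizer (Equiv.Perm GolayPt) x
  let M : Subgroup K := N.comap (Subgroup.inclusion (inf_le_left : K ≤ H))
  have : M.Normal := Subgroup.Normal.comap hN _
  rcases this.eq_bot_or_eq_top with hM | hM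
  · exfalso
    have hfree : ∀ n ∈ N, ((n : H) : Equiv.Perm GolayPt) x = x → n = 1 := fun n hn hnx => by
      have h1 : (⟨n, n.2, hnx⟩ : K) ∈ M := hn
      rw [hM, Subgroup.mem_bot] at h1
      exact Subtype.ext (congrArg (fun k : K => (k : Equiv.Perm GolayPt)) h1)
    have hconj : ∀ n ∈ N, ∀ m ∈ N, n ≠ 1 → m ≠ 1 → IsConj n m := by
      intro n hn m hm hn1 hm1
      obtain ⟨h, hh, hhx, hnm⟩ := T.two x hx _ (T.stable _ n.2 x hx) _ (T.stable _ m.2 x hx)
        (fun e => hn1 (hfree n hn e.symm)) (fun e => hm1 (hfree m hm e.symm))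
      refine isConj_iff.mpr ⟨⟨h, hh⟩, ?_⟩
      rw [← inv_mul_eq_one]
      refine hfree _ (N.mul_mem (N.inv_mem (hN.conj_mem n hn _)) hm) ?_
      have e1 : h.symm x = x := by conv_lhs => rw [← hhx, Equiv.symm_apply_apply]
      simp [Equiv.Perm.mul_apply, Equiv.Perm.inv_def, ← hnm, hhx]
    have key : ∀ r : ℕ, r.Prime → r ∣ S.card → ∃ n ∈ N, orderOf n = r := by
      intro r hr hrS
      have := Fact.mk hr
      obtain ⟨n, hn⟩ := exists_prime_orderOf_dvd_card' r
        (hrS.trans (T.card_of_normal N hbot hx ▸ Dvd.intro _ rfl))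
      exact ⟨n, n.2, by rw [← hn, Subgroup.orderOf_coe]⟩
    obtain ⟨n, hn, hnp⟩ := key p hp hpS
    obtain ⟨m, hm, hmq⟩ := key q hq hqS
    obtain ⟨c, hc⟩ := isConj_iff.mp (hconj n hn m hm
      (fun h => hp.ne_one (by rw [← hnp, h, orderOf_one]))
      (fun h => hq.ne_one (by rw [← hmq, h, orderOf_one])))
    apply hpq
    rw [← hnp, ← hmq, ← hc]
    exact (orderOf_injective (MulAut.conj c).toMonoidHom (MulAut.conj c).injective n).symm
  · refine Or.inr (eq_top_iff.mpr ?_)
    rintro g -
    obtain ⟨n, hn, hgx⟩ := T.transitive_of_normal N hbot x hx _ (T.stable _ g.2 x hx)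
    have h1 : (⟨(n⁻¹ * g : H), (n⁻¹ * g).2, by
        show ((n⁻¹ * g : H) : Equiv.Perm GolayPt) x = x
        simp [Equiv.Perm.mul_apply, ← hgx, Equiv.Perm.inv_def]⟩ : K) ∈ M := hM ▸ Subgroup.mem_top _
    have h2 : n⁻¹ * g ∈ N := h1
    simpa using N.mul_mem hn h2

/-! ### the groups -/

theorem closure_eq_of_cert {K : Subgroup (Equiv.Perm GolayPt)} {gens : List ℕ}
    {steps : List (Computation.Step ℕ)} {c : List (Computation.Level ℕ)}
    (hc : (Computation.permRep 24 5 (by decide)).checkClosure gens steps c = true)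
    (hmem : ∀ s ∈ gens, gperm s ∈ K)
    (hcard : Nat.card K = (Computation.permRep 24 5 (by decide)).order c) :
    K = Subgroup.closure (gperm '' {s | s ∈ gens}) := by
  refine (Subgroup.eq_of_le_of_card_ge ?_ ?_).symm
  · rw [Subgroup.closure_le]
    rintro _ ⟨s, hs, rfl⟩
    exact hmem s hs
  · have himg : gperm '' {s | s ∈ gens} =
        indexHom.toMonoidHom '' (Computation.decodeP 24 5 '' {s | s ∈ gens}) := by
      rw [Set.image_image]
      rfl
    rw [hcard, himg, ← MonoidHom.map_closure, Subgroup.card_map_of_injective indexHom.injective]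
    exact ((Computation.permRep 24 5 (by decide)).card_closure hc).ge

/-- `c` codes an element of prime order `p` of the group of the code fixing the index `i`. -/
def primeGen (p i c : ℕ) : Bool :=
  inM24 c && Nat.beq (Computation.getW 5 c i) i &&
    Nat.beq (Nat.rec oneCode (fun _ acc => Computation.mulP 24 5 c acc) p) oneCode

theorem powCode {c : ℕ} (hc : okCode c = true) : ∀ n : ℕ,
    okCode (Nat.rec oneCode (fun _ acc => Computation.mulP 24 5 c acc) n) = true ∧
      gperm (Nat.rec oneCode (fun _ acc => Computation.mulP 24 5 c acc) n) = gperm c ^ n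
  | 0 => ⟨okCode_oneCode, by rw [pow_zero]; exact gperm_oneCode⟩
  | n + 1 => ⟨okCode_mulP hc (powCode hc n).1, by
      change gperm (Computation.mulP 24 5 c _) = _
      rw [gperm_mul hc (powCode hc n).1, (powCode hc n).2, pow_succ']⟩

theorem primeGen_spec {p i c : ℕ} (hi : i < 24) (h : primeGen p i c = true) :
    gperm c ∈ M24 ∧ gperm c (pt i) = pt i ∧ gperm c ^ p = 1 := by
  simp only [primeGen, Bool.and_eq_true, Nat.beq_eq] at h
  have hok := okCode_of_inM24 h.1.1
  refine ⟨gperm_mem_M24 h.1.1, idx_injective ?_, ?_⟩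
  · rw [idx_gperm hok, idx_pt hi, h.1.2]
  · rw [← (powCode hok p).2, h.2, gperm_oneCode]

theorem m23_gens : (Cert.m23_gens.all (primeGen 23 23)) = true := by decide +kernel

theorem m22_gens : (Cert.m22_gens.all fun c =>
    primeGen 11 23 c && Nat.beq (Computation.getW 5 c 0) 0) = true := by decide +kernel

theorem m11_gens : (Cert.m11_gens.all fun c =>
    primeGen 11 0 c && Nat.beq (permMask c (qrMask 0)) (qrMask 0)) = true := by decide +kernel

theorem eq_one_of_fixes_erase {g : Equiv.Perm GolayPt} {A B : Finset GolayPt}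
    (hA : ∀ x ∈ B, x ∉ A → g x = x) (hB : ∀ x ∈ A, g x = x) : ∀ x ∈ B, g x = x := fun x hx => by
  by_cases h : x ∈ A
  exacts [hB x h, hA x hx h]

/-- The point set of M23. -/
def pts23 : Finset GolayPt := Finset.univ.erase none

theorem twoTrans_M23 :
    TwoTransOn (M24 ⊓ MulAction.stabilizer (Equiv.Perm GolayPt) (none : GolayPt)) pts23 where
  stable g hg x hx := by
    simp only [pts23, Finset.mem_erase, Finset.mem_univ, and_true] at hx ⊢
    exact fun h => hx (g.injective (h.trans (hg.2 : g none = none).symm))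
  two x hx y hy z hz hxy hxz := by
    simp only [pts23, Finset.mem_erase, Finset.mem_univ, and_true] at hx hy hz
    obtain ⟨g, hg, h1, h2, h3⟩ := exists_map_three (Ne.symm hx) (Ne.symm hy) hxy (Ne.symm hx)
      (Ne.symm hz) hxz
    exact ⟨g, ⟨hg, h1⟩, h2, h3⟩
  faithful g hg h := by
    refine Equiv.ext fun x => ?_
    rcases eq_or_ne x none with rfl | hx
    · exact hg.2
    · exact h x (by simp [pts23, hx])

theorem isSimple_M23 :
    IsSimpleGroup ↥(M24 ⊓ MulAction.stabilizer (Equiv.Perm GolayPt) (none : GolayPt)) := by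
  have hgen := List.all_eq_true.mp m23_gens
  refine isSimple_of_prime twoTrans_M23 (p := 23) (by decide) (by norm_num) (by decide)
    (by rw [card_stab_point]; norm_num) _ (closure_eq_of_cert Cert.m23_check (fun s hs => ?_)
      (by rw [card_stab_point, Cert.m23_order])) ?_
  · obtain ⟨h1, h2, -⟩ := primeGen_spec (by norm_num) (hgen s hs)
    exact ⟨h1, h2⟩
  · rintro _ ⟨s, hs, rfl⟩
    exact (primeGen_spec (by norm_num) (hgen s hs)).2.2

/-- The point set of M22. -/
def pts22 : Finset GolayPt := (Finset.univ.erase none).erase (some 0)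

theorem twoTrans_M22 :
    TwoTransOn (M24 ⊓ MulAction.stabilizer (Equiv.Perm GolayPt) (none : GolayPt) ⊓
      MulAction.stabilizer (Equiv.Perm GolayPt) (some 0 : GolayPt)) pts22 where
  stable g hg x hx := by
    simp only [pts22, Finset.mem_erase, Finset.mem_univ, and_true] at hx ⊢
    exact ⟨fun h => hx.1 (g.injective (h.trans (hg.2 : g (some 0) = some 0).symm)),
      fun h => hx.2 (g.injective (h.trans (hg.1.2 : g none = none).symm))⟩
  two x hx y hy z hz hxy hxz := by
    simp only [pts22, Finset.mem_erase, Finset.mem_univ, and_true] at hx hy hz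
    obtain ⟨g, hg, hi⟩ := exists_map_tuple (n := 4) (by norm_num)
      ⟨![none, some 0, x, y], injective_quad (by simp) (Ne.symm hx.2) (Ne.symm hy.2) (Ne.symm hx.1)
        (Ne.symm hy.1) hxy⟩
      ⟨![none, some 0, x, z], injective_quad (by simp) (Ne.symm hx.2) (Ne.symm hz.2) (Ne.symm hx.1)
        (Ne.symm hz.1) hxz⟩
    exact ⟨g, ⟨⟨hg, hi 0⟩, hi 1⟩, hi 2, hi 3⟩
  faithful g hg h := by
    refine Equiv.ext fun x => ?_
    rcases eq_or_ne x none with rfl | hx
    · exact hg.1.2
    rcases eq_or_ne x (some 0) with rfl | hx0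
    · exact hg.2
    exact h x (by simp [pts22, hx, hx0])

theorem isSimple_M22 :
    IsSimpleGroup ↥(M24 ⊓ MulAction.stabilizer (Equiv.Perm GolayPt) (none : GolayPt) ⊓
      MulAction.stabilizer (Equiv.Perm GolayPt) (some 0 : GolayPt)) := by
  have hgen := List.all_eq_true.mp m22_gens
  have hcard : Nat.card ↥(M24 ⊓ MulAction.stabilizer (Equiv.Perm GolayPt) (none : GolayPt) ⊓
      MulAction.stabilizer (Equiv.Perm GolayPt) (some 0 : GolayPt)) = 443520 :=
    card_stab_two (by simp)
  refine isSimple_of_prime twoTrans_M22 (p := 11) (by decide) (by norm_num) (by decide)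
    (by rw [hcard]; norm_num) _ (closure_eq_of_cert Cert.m22_check (fun s hs => ?_)
      (by rw [hcard, Cert.m22_order])) ?_
  · have h := hgen s hs
    simp only [Bool.and_eq_true, Nat.beq_eq] at h
    obtain ⟨h1, h2, -⟩ := primeGen_spec (by norm_num) h.1
    refine ⟨⟨h1, h2⟩, ?_⟩
    show gperm s (some 0) = some 0
    apply idx_injective
    rw [idx_gperm (okCode_of_inM24 (by
      have := h.1; simp only [primeGen, Bool.and_eq_true] at this; exact this.1.1))]
    exact h.2
  · rintro _ ⟨s, hs, rfl⟩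
    have h := hgen s hs
    simp only [Bool.and_eq_true] at h
    exact (primeGen_spec (by norm_num) h.1).2.2

theorem twoTrans_M11 :
    TwoTransOn (dodecadStab Spor.squareDodecad ⊓
      MulAction.stabilizer (Equiv.Perm GolayPt) (some 0 : GolayPt))
      (Spor.squareDodecad.erase (some 0)) where
  stable g hg x hx := by
    simp only [Finset.mem_erase] at hx ⊢
    exact ⟨fun h => hx.1 (g.injective (h.trans (hg.2 : g (some 0) = some 0).symm)),
      (apply_mem_iff_of_stab hg.1 x).mpr hx.2⟩
  two x hx y hy z hz hxy hxz := by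
    have h0 : (some 0 : GolayPt) ∈ Spor.squareDodecad := by
      rw [squareDodecad_eq, mem_setOfMask]; decide +kernel
    simp only [Finset.mem_erase] at hx hy hz
    obtain ⟨g, hg, hi⟩ := dodecad_map_tuple squareDodecad_mem (n := 3) (by norm_num)
      ⟨![some 0, x, y], injective_triple (Ne.symm hx.1) (Ne.symm hy.1) hxy⟩
      ⟨![some 0, x, z], injective_triple (Ne.symm hx.1) (Ne.symm hz.1) hxz⟩
      (by intro i; fin_cases i <;> simp [h0, hx.2, hy.2])
      (by intro i; fin_cases i <;> simp [h0, hx.2, hz.2])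
    exact ⟨g, ⟨hg, hi 0⟩, hi 1, hi 2⟩
  faithful g hg h := by
    obtain ⟨x⟩ := exists_tuple squareDodecad_mem
    refine eq_one_of_fixes_dodecad hg.1.1 squareDodecad_mem hg.1.2
      (x.trans (Function.Embedding.subtype _)) (fun i => (x i).2) fun i => ?_
    change g ((x i : GolayPt)) = x i
    rcases eq_or_ne (x i : GolayPt) (some 0) with he | he
    · rw [he]; exact hg.2
    · exact h _ (Finset.mem_erase.mpr ⟨he, (x i).2⟩)

theorem isSimple_M11 :
    IsSimpleGroup ↥(dodecadStab Spor.squareDodecad ⊓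
      MulAction.stabilizer (Equiv.Perm GolayPt) (some 0 : GolayPt)) := by
  have h0 : (some 0 : GolayPt) ∈ Spor.squareDodecad := by
    rw [squareDodecad_eq, mem_setOfMask]; decide +kernel
  have hS : (Spor.squareDodecad.erase (some 0)).card = 11 := by
    rw [Finset.card_erase_of_mem h0, squareDodecad_mem.2]
  have hgen := List.all_eq_true.mp m11_gens
  refine isSimple_of_prime twoTrans_M11 (p := 11) (by omega) (by norm_num) (by rw [hS])
    (by rw [card_dodecadPointStab squareDodecad_mem h0]; norm_num) _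
    (closure_eq_of_cert Cert.m11_check (fun s hs => ?_)
      (by rw [card_dodecadPointStab squareDodecad_mem h0, Cert.m11_order])) ?_
  · have h := hgen s hs
    simp only [Bool.and_eq_true, Nat.beq_eq] at h
    obtain ⟨h1, h2, -⟩ := primeGen_spec (by norm_num) h.1
    refine ⟨⟨h1, ?_⟩, h2⟩
    show gperm s • Spor.squareDodecad = Spor.squareDodecad
    rw [squareDodecad_eq, smul_setOfMask (okCode_of_inM24 (by
      have := h.1; simp only [primeGen, Bool.and_eq_true] at this; exact this.1.1)), h.2]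
  · rintro _ ⟨s, hs, rfl⟩
    have h := hgen s hs
    simp only [Bool.and_eq_true] at h
    exact (primeGen_spec (by norm_num) h.1).2.2

theorem twoTrans_M24 : TwoTransOn M24 (Finset.univ : Finset GolayPt) where
  stable _ _ _ _ := Finset.mem_univ _
  two x _ y _ z _ hxy hxz := by
    obtain ⟨g, hg, h1, h2⟩ := exists_map_two hxy hxz
    exact ⟨g, hg, h1, h2⟩
  faithful g _ h := Equiv.ext fun x => h x (Finset.mem_univ x)

theorem isSimple_M24 : IsSimpleGroup M24 :=
  isSimple_of_pointStab twoTrans_M24 (by decide) (x := none) (Finset.mem_univ _) isSimple_M23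
    (p := 2) (q := 3) Nat.prime_two Nat.prime_three (by norm_num) (by decide) (by decide)

theorem twoTrans_M12 : TwoTransOn (dodecadStab Spor.squareDodecad) Spor.squareDodecad where
  stable g hg x hx := (apply_mem_iff_of_stab hg x).mpr hx
  two x hx y hy z hz hxy hxz := by
    obtain ⟨g, hg, hi⟩ := dodecad_map_tuple squareDodecad_mem (n := 2) (by norm_num)
      ⟨![x, y], injective_pair_iff_ne.mpr hxy⟩ ⟨![x, z], injective_pair_iff_ne.mpr hxz⟩
      (by intro i; fin_cases i <;> simp [hx, hy]) (by intro i; fin_cases i <;> simp [hx, hz])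
    exact ⟨g, hg, hi 0, hi 1⟩
  faithful g hg h := by
    obtain ⟨x⟩ := exists_tuple squareDodecad_mem
    exact eq_one_of_fixes_dodecad hg.1 squareDodecad_mem hg.2
      (x.trans (Function.Embedding.subtype _)) (fun i => (x i).2) (fun i => h _ (x i).2)

theorem isSimple_M12 : IsSimpleGroup (dodecadStab Spor.squareDodecad) := by
  have hS := squareDodecad_mem.2
  exact isSimple_of_pointStab twoTrans_M12 (by omega) (x := some 0)
    (by rw [squareDodecad_eq, mem_setOfMask]; decide +kernel) isSimple_M11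
    (p := 2) (q := 3) Nat.prime_two Nat.prime_three (by norm_num) (by rw [hS]; norm_num)
    (by rw [hS]; norm_num)

/-! ### transfer to other points and dodecads -/

/-- Conjugation carries an intersection with stabilisers to another one. -/
theorem map_conj_inf {P X : Type*} [Group P] [MulAction P X] {K : Subgroup P} {a : P}
    {K' : Subgroup P} (hK : K.map (MulAut.conj a).toMonoidHom = K') (x : X) :
    (K ⊓ MulAction.stabilizer P x).map (MulAut.conj a).toMonoidHom =
      K' ⊓ MulAction.stabilizer P (a • x) := by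
  rw [Subgroup.map_inf _ _ _ (MulEquiv.injective _), hK,
    MulAction.stabilizer_smul_eq_stabilizer_map_conj]

theorem map_conj_M24 {a : Equiv.Perm GolayPt} (ha : a ∈ M24) :
    M24.map (MulAut.conj a).toMonoidHom = M24 := by
  ext g
  constructor
  · rintro ⟨h, hh, rfl⟩
    exact Subgroup.mul_mem _ (Subgroup.mul_mem _ ha hh) (Subgroup.inv_mem _ ha)
  · intro hg
    exact ⟨a⁻¹ * g * a, Subgroup.mul_mem _ (Subgroup.mul_mem _ (Subgroup.inv_mem _ ha) hg) ha,
      by simp [mul_assoc]⟩

theorem isSimple_map {P : Type*} [Group P] {K K' : Subgroup P} (hK : IsSimpleGroup K) (f : MulAut P)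
    (h : K.map f.toMonoidHom = K') : IsSimpleGroup K' :=
  h ▸ (K.equivMapOfInjective f.toMonoidHom f.injective).symm.isSimpleGroup

theorem isSimple_stab_point (p : GolayPt) :
    IsSimpleGroup ↥(M24 ⊓ MulAction.stabilizer (Equiv.Perm GolayPt) p) := by
  obtain ⟨a, ha, rfl⟩ := exists_map_one none p
  exact isSimple_map isSimple_M23 _ (map_conj_inf (map_conj_M24 ha) (none : GolayPt))

theorem isSimple_stab_two {p q : GolayPt} (hpq : p ≠ q) :
    IsSimpleGroup ↥(M24 ⊓ MulAction.stabilizer (Equiv.Perm GolayPt) p ⊓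
      MulAction.stabilizer (Equiv.Perm GolayPt) q) := by
  obtain ⟨a, ha, rfl, rfl⟩ := exists_map_two (p := none) (q := some 0) (by simp) hpq
  exact isSimple_map isSimple_M22 _
    (map_conj_inf (map_conj_inf (map_conj_M24 ha) (none : GolayPt)) (some 0 : GolayPt))

theorem isSimple_dodecadStab {d : Finset GolayPt} (hd : d ∈ dodecads) :
    IsSimpleGroup (dodecadStab d) := by
  obtain ⟨a, ha, rfl⟩ := transitive_dodecads squareDodecad_mem hd
  exact isSimple_map isSimple_M12 _ (map_conj_inf (map_conj_M24 ha) Spor.squareDodecad)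

theorem isSimple_dodecadPointStab {d : Finset GolayPt} (hd : d ∈ dodecads) {p : GolayPt}
    (hp : p ∈ d) :
    IsSimpleGroup ↥(dodecadStab d ⊓ MulAction.stabilizer (Equiv.Perm GolayPt) p) := by
  obtain ⟨a, ha, rfl⟩ := transitive_dodecads squareDodecad_mem hd
  obtain ⟨b, hb, hbp⟩ := dodecad_map_tuple hd (n := 1) (by norm_num)
    ⟨fun _ => a (some 0), Function.injective_of_subsingleton _⟩
    ⟨fun _ => p, Function.injective_of_subsingleton _⟩
    (fun _ => Finset.mem_smul_finset.mpr ⟨some 0, by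
      rw [squareDodecad_eq, mem_setOfMask]; decide +kernel, rfl⟩)
    (fun _ => hp)
  have hba : (b * a) • Spor.squareDodecad = a • Spor.squareDodecad := by
    rw [mul_smul]; exact (mem_dodecadStab.mp hb).2
  have hbap : (b * a) • (some 0 : GolayPt) = p := hbp 0
  have h := map_conj_inf (map_conj_inf (map_conj_M24 (Subgroup.mul_mem _ (mem_dodecadStab.mp hb).1 ha))
    Spor.squareDodecad) (some 0 : GolayPt)
  rw [hba, hbap] at h
  exact isSimple_map isSimple_M11 _ h

theorem card_spor_M23 : Nat.card Spor.M23 = 10200960 := card_stab_point _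

theorem card_spor_M22 : Nat.card Spor.M22 = 443520 := card_stab_two (by simp)

theorem card_spor_M12 : Nat.card Spor.M12 = 95040 := card_dodecadStab squareDodecad_mem

theorem card_spor_M11 : Nat.card Spor.M11 = 7920 :=
  card_dodecadPointStab squareDodecad_mem (by rw [squareDodecad_eq, mem_setOfMask]; decide +kernel)

theorem isSimple_spor_M23 : IsSimpleGroup Spor.M23 := isSimple_M23

theorem isSimple_spor_M22 : IsSimpleGroup Spor.M22 := isSimple_M22

theorem isSimple_spor_M12 : IsSimpleGroup Spor.M12 := isSimple_M12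

theorem isSimple_spor_M11 : IsSimpleGroup Spor.M11 := isSimple_M11

end Cfsg.Agent.Lib.Golay
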