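import Mathlib
import Cfsg.Prelude.Def_Sporadic_a

/-!
# The length-24 code as a set of 24-bit masks

The point `some x` has index `x.val`, the extra point `none` has index 23.  A word is encoded by the
natural number whose binary digits are its coordinates; everything finite is then checked by the
kernel with binary arithmetic on natural numbers.
-/

set_option autoImplicit false

namespace Cfsg.Agent.Lib.Golay

open Cfsg

/-! ### points and indices -/

/-- The index of a point. -/
def idx : GolayPt → ℕ
  | none => 23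
  | some x => ZMod.val x

/-- The point with a given index (`none` for every index at least 23). -/
def pt (i : ℕ) : GolayPt := if i < 23 then some (i : ZMod 23) else none

theorem idx_lt (p : GolayPt) : idx p < 24 := by revert p; decide +kernel

theorem pt_idx (p : GolayPt) : pt (idx p) = p := by revert p; decide +kernel

theorem idx_pt {i : ℕ} (hi : i < 24) : idx (pt i) = i := by
  revert i; decide +kernel

theorem idx_injective : Function.Injective idx := fun p q h => by
  rw [← pt_idx p, h, pt_idx]

theorem card_golayPt : Fintype.card GolayPt = 24 := by decide +kernel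

/-! ### masks -/

/-- The set of points whose index is a binary digit `1` of `m`. -/
def setOfMask (m : ℕ) : Finset GolayPt := Finset.univ.filter fun p => m.testBit (idx p) = true

/-- The word whose coordinates are the binary digits of `m`. -/
def wordOfMask (m : ℕ) : GolayPt → ZMod 2 := fun p => if m.testBit (idx p) then 1 else 0

@[simp] theorem mem_setOfMask {m : ℕ} {p : GolayPt} :
    p ∈ setOfMask m ↔ m.testBit (idx p) = true := by simp [setOfMask]

theorem support₂_wordOfMask (m : ℕ) : support₂ (wordOfMask m) = setOfMask m := by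
  ext p
  cases h : m.testBit (idx p) <;> simp [support₂, wordOfMask, setOfMask, h]

theorem wordOfMask_xor (a b : ℕ) : wordOfMask (a ^^^ b) = wordOfMask a + wordOfMask b := by
  funext p
  simp only [wordOfMask, Nat.testBit_xor, Pi.add_apply]
  cases a.testBit (idx p) <;> cases b.testBit (idx p) <;> decide +kernel

theorem wordOfMask_zero : wordOfMask 0 = 0 := by funext p; simp [wordOfMask]

theorem setOfMask_injOn {a b : ℕ} (ha : a < 2 ^ 24) (hb : b < 2 ^ 24)
    (h : setOfMask a = setOfMask b) : a = b := by
  apply Nat.eq_of_testBit_eq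
  intro i
  by_cases hi : i < 24
  · have h1 : pt i ∈ setOfMask a ↔ pt i ∈ setOfMask b := by rw [h]
    simp only [mem_setOfMask, idx_pt hi] at h1
    exact Bool.eq_iff_iff.mpr h1
  · have h2 : 2 ^ 24 ≤ 2 ^ i := Nat.pow_le_pow_right (by norm_num) (not_lt.mp hi)
    rw [Nat.testBit_lt_two_pow (ha.trans_le h2), Nat.testBit_lt_two_pow (hb.trans_le h2)]

theorem wordOfMask_injOn {a b : ℕ} (ha : a < 2 ^ 24) (hb : b < 2 ^ 24)
    (h : wordOfMask a = wordOfMask b) : a = b :=
  setOfMask_injOn ha hb (by rw [← support₂_wordOfMask, h, support₂_wordOfMask])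

/-- The sum of `2 ^ idx p` over a set of points: the mask of the set. -/
def maskOfSet (s : Finset GolayPt) : ℕ := ∑ p ∈ s, 2 ^ idx p

/-- Number of ones among the lowest `n` binary digits (reference form). -/
def pc : ℕ → ℕ → ℕ
  | 0, _ => 0
  | n + 1, m => m % 2 + pc n (m / 2)

theorem pc_eq : ∀ n m : ℕ, pc n m = ((Finset.range n).filter fun i => m.testBit i = true).card
  | 0, m => by simp [pc]
  | n + 1, m => by
    rw [pc, pc_eq n (m / 2)]
    rw [Finset.card_filter, Finset.card_filter, Finset.sum_range_succ', add_comm]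
    congr 1
    · simp only [Nat.testBit_succ]
    · rw [Nat.testBit_zero]
      rcases Nat.mod_two_eq_zero_or_one m with h | h <;> simp [h]

theorem pc_add : ∀ a b m : ℕ, pc (a + b) m = pc a m + pc b (m / 2 ^ a)
  | 0, b, m => by simp [pc]
  | a + 1, b, m => by
    rw [Nat.succ_add, pc, pc, pc_add a b (m / 2), Nat.div_div_eq_div_mul, pow_succ',
      Nat.add_assoc]

theorem pc_mod : ∀ n m : ℕ, pc n (m % 2 ^ n) = pc n m
  | 0, _ => rfl
  | n + 1, m => by
    rw [pc, pc, pow_succ', Nat.mod_mul, Nat.add_mul_mod_self_left, Nat.mod_mod,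
      Nat.add_mul_div_left _ _ (by norm_num), Nat.div_eq_of_lt (Nat.mod_lt _ (by norm_num)),
      zero_add, pc_mod n]

/-- Packed table of the numbers of ones of six binary digits. -/
def pcTable : ℕ := 45832594422234749298105850410103375650784739062395034443511311641156132086032

/-- The look-up in `pcTable`. -/
def pc6 (m : ℕ) : ℕ := (pcTable >>> (4 * (m % 64))) % 16

theorem pc6_spec : ((List.range 64).all fun v => Nat.beq (pc6 v) (pc 6 v)) = true := by
  decide +kernel

theorem pc_six (m : ℕ) : pc 6 m = pc6 m := by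
  have h := List.all_eq_true.mp pc6_spec (m % 64) (List.mem_range.mpr (Nat.mod_lt _ (by norm_num)))
  rw [Nat.beq_eq] at h
  rw [← pc_mod, show (2 : ℕ) ^ 6 = 64 from rfl, ← h]
  simp [pc6]

/-- Number of ones among the lowest 24 binary digits (fast form). -/
def pc24 (m : ℕ) : ℕ := pc6 m + pc6 (m / 64) + pc6 (m / 4096) + pc6 (m / 262144)

theorem pc24_eq (m : ℕ) : pc24 m = pc 24 m := by
  simp only [pc24, ← pc_six]
  rw [show (24 : ℕ) = 6 + (6 + (6 + 6)) from rfl, pc_add 6, pc_add 6, pc_add 6,
    Nat.div_div_eq_div_mul, Nat.div_div_eq_div_mul]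
  norm_num [Nat.add_assoc]

theorem card_setOfMask (m : ℕ) : (setOfMask m).card = pc24 m := by
  rw [pc24_eq, pc_eq]
  refine Finset.card_bij (fun p _ => idx p) ?_ ?_ ?_
  · intro p hp
    simp only [mem_setOfMask] at hp
    simp [hp, idx_lt p]
  · intro p _ q _ h
    exact idx_injective h
  · intro i hi
    simp only [Finset.mem_filter, Finset.mem_range] at hi
    exact ⟨pt i, by simp [idx_pt hi.1, hi.2], idx_pt hi.1⟩

theorem hammingNorm_eq_card {α : Type*} [Fintype α] (w : α → ZMod 2) :
    hammingNorm w = (support₂ w).card := rfl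

theorem support₂_injective {α : Type*} [Fintype α] :
    Function.Injective (support₂ : (α → ZMod 2) → Finset α) := by
  intro v w h
  funext a
  have h1 : a ∈ support₂ v ↔ a ∈ support₂ w := by rw [h]
  simp only [support₂, Finset.mem_filter, Finset.mem_univ, true_and] at h1
  revert h1
  generalize v a = x
  generalize w a = y
  revert x y
  decide +kernel

/-! ### the systematic generator matrix -/

/-- Rows of a generator matrix which is the identity on the indices below 12. -/
def rows : List ℕ :=
  [13062145, 4845570, 13938692, 7221256, 10170384, 11952160, 15515712, 2019456, 4038912,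
   8077824, 11654144, 14919680]

/-- The sum of the rows selected by the binary digits of `k`. -/
def combine : List ℕ → ℕ → ℕ
  | [], _ => 0
  | r :: rs, k => (if k % 2 = 1 then r else 0) ^^^ combine rs (k / 2)

/-- Packed table of the code words with the messages `v`, for `v < 16`. -/
def encTable0 : ℕ := 8022809230915759332262008551417910556706467469549434488445797555405905193015310901685018359721720842706792354938880

/-- Packed table of the code words with the messages `16 * v`, for `v < 16`. -/
def encTable1 : ℕ := 34361884134913195619000685081225860704308254691419764734167704384270879810107077918086750610179317838429122723840000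

/-- Packed table of the code words with the messages `256 * v`, for `v < 16`. -/
def encTable2 : ℕ := 3173877189738205771042859152735949085199766642506817334141401598829026353193368422681760703267833147374346761666560

/-- The code word with message `k`, for `k < 4096`. -/
def enc (k : ℕ) : ℕ :=
  (encTable0 >>> (24 * (k % 16))) % 16777216 ^^^
    (encTable1 >>> (24 * (k / 16 % 16))) % 16777216 ^^^
    (encTable2 >>> (24 * (k / 256 % 16))) % 16777216

/-- Test for membership of a mask in the code. -/
def inCode (m : ℕ) : Bool := Nat.blt m (2 ^ 24) && Nat.beq (enc (m % 4096)) m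

theorem combine_zero : ∀ rs : List ℕ, combine rs 0 = 0
  | [] => rfl
  | r :: rs => by simp [combine, combine_zero rs]

theorem combine_xor : ∀ (rs : List ℕ) (a b : ℕ),
    combine rs (a ^^^ b) = combine rs a ^^^ combine rs b
  | [], a, b => by simp [combine]
  | r :: rs, a, b => by
    have h2 : (a ^^^ b) / 2 = a / 2 ^^^ b / 2 := by
      apply Nat.eq_of_testBit_eq
      intro i
      simp [← Nat.testBit_succ, Nat.testBit_xor]
    have h1 : ((a ^^^ b) % 2 = 1) ↔ ¬(a % 2 = 1 ↔ b % 2 = 1) := by
      have := Nat.testBit_xor a b 0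
      simp only [Nat.testBit_zero] at this
      rcases Nat.mod_two_eq_zero_or_one a with ha | ha <;>
        rcases Nat.mod_two_eq_zero_or_one b with hb | hb <;>
        simp [ha, hb] at this ⊢ <;> omega
    simp only [combine, h2, combine_xor rs]
    apply Nat.eq_of_testBit_eq
    intro i
    simp only [Nat.testBit_xor]
    rcases Nat.mod_two_eq_zero_or_one a with ha | ha <;>
      rcases Nat.mod_two_eq_zero_or_one b with hb | hb <;>
      simp [ha, hb] at h1 <;> simp [ha, hb, h1] <;>
      cases r.testBit i <;> simp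

theorem enc_combine_spec :
    ((List.range 4096).all fun k => Nat.beq (enc k) (combine rows k)) = true := by decide +kernel

theorem enc_eq {k : ℕ} (hk : k < 4096) : enc k = combine rows k :=
  Nat.eq_of_beq_eq_true (List.all_eq_true.mp enc_combine_spec k (List.mem_range.mpr hk))

theorem enc_zero : enc 0 = 0 := by decide +kernel

theorem enc_xor {a b : ℕ} (ha : a < 4096) (hb : b < 4096) :
    enc (a ^^^ b) = enc a ^^^ enc b := by
  rw [enc_eq ha, enc_eq hb, enc_eq (Nat.xor_lt_two_pow (n := 12) ha hb), combine_xor]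

/-- All facts about the 4096 code masks that are checked by computation. -/
theorem enc_spec : ((List.range 4096).all fun k =>
    inCode (enc k) && Nat.beq (enc k % 4096) k) = true := by decide +kernel

theorem enc_lt {k : ℕ} (hk : k < 4096) : enc k < 2 ^ 24 := by
  have h := List.all_eq_true.mp enc_spec k (List.mem_range.mpr hk)
  simp only [inCode, Bool.and_eq_true, Nat.blt_eq] at h
  exact h.1.1

theorem enc_mod {k : ℕ} (hk : k < 4096) : enc k % 4096 = k := by
  have h := List.all_eq_true.mp enc_spec k (List.mem_range.mpr hk)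
  simp only [Bool.and_eq_true, Nat.beq_eq] at h
  exact h.2

theorem inCode_enc {k : ℕ} (hk : k < 4096) : inCode (enc k) = true := by
  have h := List.all_eq_true.mp enc_spec k (List.mem_range.mpr hk)
  simp only [Bool.and_eq_true] at h
  exact h.1

theorem inCode_iff {m : ℕ} : inCode m = true ↔ ∃ k < 4096, enc k = m := by
  constructor
  · intro h
    simp only [inCode, Bool.and_eq_true, Nat.beq_eq] at h
    exact ⟨m % 4096, Nat.mod_lt _ (by norm_num), h.2⟩
  · rintro ⟨k, hk, rfl⟩
    exact inCode_enc hk

/-! ### the code -/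

/-- The mask of the translate by `t` of the squares. -/
def qrMask (t : ℕ) : ℕ :=
  [0, 1, 2, 3, 4, 6, 8, 9, 12, 13, 16, 18].foldl (fun m s => m ||| 2 ^ ((s + t) % 23)) 0

theorem qrWord_eq (t : ZMod 23) : qrWord t = wordOfMask (qrMask t.val) := by
  funext p
  revert t p
  decide +kernel

theorem one_eq_wordOfMask : (1 : GolayPt → ZMod 2) = wordOfMask (2 ^ 24 - 1) := by
  funext p
  revert p
  decide +kernel

/-- The set of words with a code mask, as a submodule. -/
def maskCode : Submodule (ZMod 2) (GolayPt → ZMod 2) where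
  carrier := {w | ∃ k < 4096, w = wordOfMask (enc k)}
  zero_mem' := ⟨0, by norm_num, by rw [enc_zero, wordOfMask_zero]⟩
  add_mem' := by
    rintro v w ⟨a, ha, rfl⟩ ⟨b, hb, rfl⟩
    refine ⟨a ^^^ b, Nat.xor_lt_two_pow (n := 12) ha hb, ?_⟩
    rw [enc_xor ha hb, wordOfMask_xor]
  smul_mem' := by
    rintro c w ⟨a, ha, rfl⟩
    have hc : ∀ d : ZMod 2, d = 0 ∨ d = 1 := by decide
    rcases hc c with rfl | rfl
    · exact ⟨0, by norm_num, by rw [zero_smul, enc_zero, wordOfMask_zero]⟩
    · exact ⟨a, ha, one_smul _ _⟩

theorem gens_in_maskCode :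
    (((List.range 23).map qrMask ++ [2 ^ 24 - 1]).all inCode) = true := by decide +kernel

/-- The all-ones mask followed by the 23 masks `qrMask t`. -/
def genMasks : List ℕ := (2 ^ 24 - 1) :: (List.range 23).map qrMask

/-- For each row, a selection of generating masks adding up to it. -/
def rowCert : List ℕ := [3411, 560, 2355, 2800, 3445, 3887, 2971, 4000, 2694, 202, 3271, 3147]

theorem rowCert_spec : rowCert.map (combine genMasks) = rows := by decide +kernel

theorem combine_mem {C : Submodule (ZMod 2) (GolayPt → ZMod 2)} :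
    ∀ (rs : List ℕ) (k : ℕ), (∀ r ∈ rs, wordOfMask r ∈ C) → wordOfMask (combine rs k) ∈ C
  | [], k, _ => by rw [combine, wordOfMask_zero]; exact C.zero_mem
  | r :: rs, k, h => by
    rw [combine, wordOfMask_xor]
    refine C.add_mem ?_ (combine_mem rs _ fun s hs => h s (List.mem_cons_of_mem _ hs))
    split
    · exact h r List.mem_cons_self
    · rw [wordOfMask_zero]; exact C.zero_mem

theorem golayCode_eq_maskCode : golayCode = maskCode := by
  apply le_antisymm
  · rw [golayCode, Submodule.span_le]
    have hin : ∀ m, inCode m = true → wordOfMask m ∈ maskCode := by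
      intro m hm
      obtain ⟨k, hk, rfl⟩ := inCode_iff.mp hm
      exact ⟨k, hk, rfl⟩
    rintro w (⟨t, rfl⟩ | rfl)
    · rw [qrWord_eq]
      refine hin _ (List.all_eq_true.mp gens_in_maskCode _ ?_)
      exact List.mem_append_left _ (List.mem_map.mpr ⟨t.val, List.mem_range.mpr t.val_lt, rfl⟩)
    · rw [one_eq_wordOfMask]
      exact hin _ (List.all_eq_true.mp gens_in_maskCode _ (List.mem_append_right _ (by simp)))
  · rintro w ⟨k, hk, rfl⟩
    rw [enc_eq hk]
    refine combine_mem rows k ?_
    intro r hr
    rw [← rowCert_spec] at hr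
    obtain ⟨c, _, rfl⟩ := List.mem_map.mp hr
    refine combine_mem genMasks c ?_
    intro g hg
    rcases List.mem_cons.mp hg with rfl | hg
    · rw [← one_eq_wordOfMask]
      exact Submodule.subset_span (Or.inr rfl)
    · obtain ⟨t, ht, rfl⟩ := List.mem_map.mp hg
      have : qrMask t = qrMask (t : ZMod 23).val := by
        rw [ZMod.val_natCast, Nat.mod_eq_of_lt (List.mem_range.mp ht)]
      rw [this, ← qrWord_eq]
      exact Submodule.subset_span (Or.inl ⟨_, rfl⟩)

/-- A word is in the code iff it is the word of a code mask. -/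
theorem mem_golayCode_iff {w : GolayPt → ZMod 2} :
    w ∈ golayCode ↔ ∃ k < 4096, w = wordOfMask (enc k) := by
  rw [golayCode_eq_maskCode]
  rfl

theorem wordOfMask_mem {m : ℕ} (hm : inCode m = true) : wordOfMask m ∈ golayCode := by
  obtain ⟨k, hk, rfl⟩ := inCode_iff.mp hm
  exact mem_golayCode_iff.mpr ⟨k, hk, rfl⟩

theorem wordOfMask_mem_iff {m : ℕ} (hm : m < 2 ^ 24) :
    wordOfMask m ∈ golayCode ↔ inCode m = true := by
  refine ⟨fun h => ?_, wordOfMask_mem⟩
  obtain ⟨k, hk, he⟩ := mem_golayCode_iff.mp h
  rw [wordOfMask_injOn hm (enc_lt hk) he]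
  exact inCode_enc hk

theorem mem_supports_iff {s : Finset GolayPt} :
    s ∈ supports (golayCode : Set (GolayPt → ZMod 2)) ↔ ∃ k < 4096, s = setOfMask (enc k) := by
  constructor
  · rintro ⟨w, hw, rfl⟩
    obtain ⟨k, hk, rfl⟩ := mem_golayCode_iff.mp hw
    exact ⟨k, hk, support₂_wordOfMask _⟩
  · rintro ⟨k, hk, rfl⟩
    exact ⟨_, mem_golayCode_iff.mpr ⟨k, hk, rfl⟩, support₂_wordOfMask _⟩

theorem setOfMask_mem_supports {m : ℕ} (hm : inCode m = true) :
    setOfMask m ∈ supports (golayCode : Set (GolayPt → ZMod 2)) := by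
  obtain ⟨k, hk, rfl⟩ := inCode_iff.mp hm
  exact mem_supports_iff.mpr ⟨k, hk, rfl⟩

/-- The code as a linearly parametrised space. -/
noncomputable def codeEquivFin : Fin 4096 ≃ golayCode :=
  Equiv.ofBijective (fun k => ⟨wordOfMask (enc k), mem_golayCode_iff.mpr ⟨k, k.isLt, rfl⟩⟩)
    ⟨fun a b h => by
      have := wordOfMask_injOn (enc_lt a.isLt) (enc_lt b.isLt) (congrArg Subtype.val h)
      apply Fin.ext
      rw [← enc_mod a.isLt, this, enc_mod b.isLt],
    fun w => by
      obtain ⟨k, hk, he⟩ := mem_golayCode_iff.mp w.2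
      exact ⟨⟨k, hk⟩, Subtype.ext he.symm⟩⟩

theorem card_golayCode : Nat.card golayCode = 2 ^ 12 := by
  rw [← Nat.card_congr codeEquivFin, Nat.card_fin]
  norm_num

theorem finrank_golayCode : Module.finrank (ZMod 2) golayCode = 12 := by
  have h := card_golayCode
  rw [Module.natCard_eq_pow_finrank (K := ZMod 2), Nat.card_zmod] at h
  exact Nat.pow_right_injective le_rfl h

theorem one_mem : (1 : GolayPt → ZMod 2) ∈ golayCode :=
  Submodule.subset_span (Or.inr rfl)

/-! ### weights -/

theorem weight_spec : ((List.range 4096).all fun k =>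
    Nat.beq (pc24 (enc k)) 0 || Nat.beq (pc24 (enc k)) 8 || Nat.beq (pc24 (enc k)) 12 ||
      Nat.beq (pc24 (enc k)) 16 || Nat.beq (pc24 (enc k)) 24) = true := by
  decide +kernel

theorem card_of_mem_supports {s : Finset GolayPt}
    (hs : s ∈ supports (golayCode : Set (GolayPt → ZMod 2))) :
    s.card = 0 ∨ s.card = 8 ∨ s.card = 12 ∨ s.card = 16 ∨ s.card = 24 := by
  obtain ⟨k, hk, rfl⟩ := mem_supports_iff.mp hs
  have h := List.all_eq_true.mp weight_spec k (List.mem_range.mpr hk)
  revert h
  rw [card_setOfMask]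
  generalize pc24 (enc k) = n
  simp only [Bool.or_eq_true, Nat.beq_eq, or_assoc]
  exact id

theorem eight_le_card {s : Finset GolayPt}
    (hs : s ∈ supports (golayCode : Set (GolayPt → ZMod 2))) (h0 : s.Nonempty) : 8 ≤ s.card := by
  have := card_of_mem_supports hs
  have := h0.card_pos
  omega

theorem weight_mem {w : GolayPt → ZMod 2} (hw : w ∈ golayCode) :
    hammingNorm w = 0 ∨ hammingNorm w = 8 ∨ hammingNorm w = 12 ∨ hammingNorm w = 16 ∨
      hammingNorm w = 24 := by
  rw [hammingNorm_eq_card]
  exact card_of_mem_supports ⟨w, hw, rfl⟩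

/-- The masks of the code words of weight `n`. -/
def masksOfWeight (n : ℕ) : List ℕ :=
  ((List.range 4096).map enc).filter fun m => Nat.beq (pc24 m) n

theorem mem_masksOfWeight {m n : ℕ} :
    m ∈ masksOfWeight n ↔ inCode m = true ∧ pc24 m = n := by
  rw [masksOfWeight, List.mem_filter, List.mem_map, Nat.beq_eq, inCode_iff]
  exact and_congr_left' ⟨fun ⟨k, hk, he⟩ => ⟨k, List.mem_range.mp hk, he⟩,
    fun ⟨k, hk, he⟩ => ⟨k, List.mem_range.mpr hk, he⟩⟩

theorem mem_wordsOfWeight_iff {s : Finset GolayPt} {n : ℕ} :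
    s ∈ wordsOfWeight (golayCode : Set (GolayPt → ZMod 2)) n ↔
      ∃ m ∈ masksOfWeight n, s = setOfMask m := by
  constructor
  · rintro ⟨hs, hn⟩
    obtain ⟨k, hk, rfl⟩ := mem_supports_iff.mp hs
    exact ⟨enc k, mem_masksOfWeight.mpr ⟨inCode_enc hk, by rw [← card_setOfMask, hn]⟩, rfl⟩
  · rintro ⟨m, hm, rfl⟩
    rw [mem_masksOfWeight] at hm
    exact ⟨setOfMask_mem_supports hm.1, by rw [card_setOfMask, hm.2]⟩

theorem ncard_wordsOfWeight (n : ℕ) :
    (wordsOfWeight (golayCode : Set (GolayPt → ZMod 2)) n).ncard = (masksOfWeight n).length := by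
  have hnd : (masksOfWeight n).Nodup := by
    refine List.Nodup.filter _ (List.Nodup.map_on ?_ List.nodup_range)
    intro a ha b hb h
    rw [← enc_mod (List.mem_range.mp ha), h, enc_mod (List.mem_range.mp hb)]
  have he : wordsOfWeight (golayCode : Set (GolayPt → ZMod 2)) n =
      setOfMask '' ((masksOfWeight n).toFinset : Set ℕ) := by
    ext s
    simp only [mem_wordsOfWeight_iff, Set.mem_image, List.coe_toFinset, Set.mem_ofPred_eq]
    constructor
    · rintro ⟨m, hm, rfl⟩; exact ⟨m, hm, rfl⟩
    · rintro ⟨m, hm, rfl⟩; exact ⟨m, hm, rfl⟩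
  rw [he, Set.InjOn.ncard_image, Set.ncard_coe_finset, List.toFinset_card_of_nodup hnd]
  intro a ha b hb h
  simp only [List.coe_toFinset, Set.mem_ofPred_eq, mem_masksOfWeight] at ha hb
  obtain ⟨i, hi, rfl⟩ := inCode_iff.mp ha.1
  obtain ⟨j, hj, rfl⟩ := inCode_iff.mp hb.1
  exact setOfMask_injOn (enc_lt hi) (enc_lt hj) h

theorem ncard_octads : octads.ncard = 759 := by
  rw [octads, ncard_wordsOfWeight]
  decide +kernel

theorem ncard_dodecads : dodecads.ncard = 2576 := by
  rw [dodecads, ncard_wordsOfWeight]
  decide +kernel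

/-! ### self-duality -/

/-- Parity of the common ones of two masks, as a Boolean. -/
def oddMeet (a b : ℕ) : Bool := Nat.beq (pc24 (a &&& b) % 2) 1

theorem dot_wordOfMask (a b : ℕ) :
    ∑ p, wordOfMask a p * wordOfMask b p = (pc24 (a &&& b) : ZMod 2) := by
  rw [← card_setOfMask, setOfMask, Finset.card_filter, Nat.cast_sum]
  refine Finset.sum_congr rfl fun p _ => ?_
  simp only [wordOfMask, Nat.testBit_and]
  cases a.testBit (idx p) <;> cases b.testBit (idx p) <;> simp

theorem rows_orth :
    (rows.all fun a => rows.all fun b => !oddMeet a b) = true := by decide +kernel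

theorem rows_mem : ∀ r ∈ rows, wordOfMask r ∈ golayCode := by
  intro r hr
  apply wordOfMask_mem
  revert hr
  revert r
  decide +kernel

theorem golayCode_eq_span_rows :
    golayCode = Submodule.span (ZMod 2) {w | ∃ r ∈ rows, w = wordOfMask r} := by
  apply le_antisymm
  · intro w hw
    obtain ⟨k, hk, rfl⟩ := mem_golayCode_iff.mp hw
    rw [enc_eq hk]
    exact combine_mem rows k fun r hr => Submodule.subset_span ⟨r, hr, rfl⟩
  · rw [Submodule.span_le]
    rintro w ⟨r, hr, rfl⟩
    exact rows_mem r hr

theorem self_orth {v w : GolayPt → ZMod 2} (hv : v ∈ golayCode) (hw : w ∈ golayCode) :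
    ∑ i, v i * w i = 0 := by
  rw [golayCode_eq_span_rows] at hv hw
  induction hv using Submodule.span_induction with
  | zero => simp
  | add x y _ _ hx hy => simp [add_mul, Finset.sum_add_distrib, hx, hy]
  | smul c x _ hx => simp [mul_assoc, ← Finset.mul_sum, hx]
  | mem x hx =>
    induction hw using Submodule.span_induction with
    | zero => simp
    | add y z _ _ hy hz => simp [mul_add, Finset.sum_add_distrib, hy, hz]
    | smul c y _ hy => simp [mul_left_comm _ c, ← Finset.mul_sum, hy]
    | mem y hy =>
      obtain ⟨a, ha, rfl⟩ := hx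
      obtain ⟨b, hb, rfl⟩ := hy
      have h := List.all_eq_true.mp (List.all_eq_true.mp rows_orth a ha) b hb
      simp only [oddMeet, Bool.not_eq_true', Bool.eq_false_iff, ne_eq, Nat.beq_eq] at h
      rw [dot_wordOfMask, ZMod.natCast_eq_zero_iff_even, Nat.even_iff]
      omega

/-- Two members of the code meet evenly. -/
theorem even_card_inter {s t : Finset GolayPt}
    (hs : s ∈ supports (golayCode : Set (GolayPt → ZMod 2)))
    (ht : t ∈ supports (golayCode : Set (GolayPt → ZMod 2))) : Even (s ∩ t).card := by
  obtain ⟨v, hv, rfl⟩ := hs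
  obtain ⟨w, hw, rfl⟩ := ht
  have h := self_orth hv hw
  rw [← ZMod.natCast_eq_zero_iff_even, ← h, support₂, support₂, ← Finset.filter_and,
    Finset.card_filter, Nat.cast_sum]
  refine Finset.sum_congr rfl fun p _ => ?_
  generalize v p = x
  generalize w p = y
  revert x y
  decide +kernel

theorem upper_orth : ((List.range 4096).all fun u =>
    Nat.beq u 0 || rows.any fun r => oddMeet (u * 4096) r) = true := by decide +kernel

/-- The code contains every word orthogonal to it. -/
theorem mem_of_orth {w : GolayPt → ZMod 2} (h : ∀ v ∈ golayCode, ∑ i, w i * v i = 0) :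
    w ∈ golayCode := by
  have hw : w = wordOfMask (maskOfSet (support₂ w)) ∧ maskOfSet (support₂ w) < 2 ^ 24 := by
    have hb : ∀ i, (maskOfSet (support₂ w)).testBit i = true ↔
        i ∈ (support₂ w).image idx := by
      intro i
      have he : maskOfSet (support₂ w) = ∑ j ∈ (support₂ w).image idx, 2 ^ j := by
        rw [maskOfSet, Finset.sum_image fun a _ b _ hab => idx_injective hab]
      rw [he, ← Nat.mem_bitIndices, ← List.mem_toFinset,
        Finset.toFinset_bitIndices_sum_two_pow]
    constructor
    · apply support₂_injective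
      rw [support₂_wordOfMask]
      ext p
      rw [mem_setOfMask, hb]
      simp [idx_injective.eq_iff]
    · refine Nat.lt_pow_two_of_testBit _ fun i hi => ?_
      rw [Bool.eq_false_iff, ne_eq, hb, Finset.mem_image]
      rintro ⟨p, _, rfl⟩
      exact absurd hi (not_le.mpr (idx_lt p))
  obtain ⟨hw1, hw2⟩ := hw
  generalize maskOfSet (support₂ w) = m at hw1 hw2
  subst hw1
  have hk : m % 4096 < 4096 := Nat.mod_lt _ (by norm_num)
  have hu : (m ^^^ enc (m % 4096)) % 4096 = 0 := by
    rw [show (4096 : ℕ) = 2 ^ 12 from rfl, Nat.xor_mod_two_pow]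
    rw [show (2 : ℕ) ^ 12 = 4096 from rfl, enc_mod hk, Nat.xor_self]
  have hlt : m ^^^ enc (m % 4096) < 2 ^ 24 := Nat.xor_lt_two_pow hw2 (enc_lt hk)
  obtain ⟨u, hu'⟩ : ∃ u, m ^^^ enc (m % 4096) = u * 4096 :=
    ⟨(m ^^^ enc (m % 4096)) / 4096, by omega⟩
  have hu2 : u < 4096 := by omega
  have h2 := List.all_eq_true.mp upper_orth u (List.mem_range.mpr hu2)
  simp only [Bool.or_eq_true, Nat.beq_eq, List.any_eq_true] at h2
  rcases h2 with rfl | ⟨r, hr, hodd⟩
  · rw [Nat.zero_mul] at hu'
    rw [Nat.xor_eq_zero_iff] at hu'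
    rw [hu']
    exact mem_golayCode_iff.mpr ⟨_, hk, rfl⟩
  · exfalso
    simp only [oddMeet, Nat.beq_eq] at hodd
    have hd := dot_wordOfMask (u * 4096) r
    rw [← hu', wordOfMask_xor] at hd
    simp only [Pi.add_apply, add_mul, Finset.sum_add_distrib] at hd
    rw [h _ (rows_mem r hr),
      self_orth (mem_golayCode_iff.mpr ⟨_, hk, rfl⟩) (rows_mem r hr), add_zero, eq_comm,
      ZMod.natCast_eq_zero_iff_even, Nat.even_iff] at hd
    rw [hu'] at hd
    omega

end Cfsg.Agent.Lib.Golay
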