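import Cfsg.Agent.Lib.Golay.Perm
import Cfsg.Agent.Lib.Golay.GenCert

/-!
# The group of the code: order, generators, transitivity

An element is determined by the images of seven points (five points, a sixth one in their octad,
a seventh one outside it), and the group generated by `x + 1`, `-1/x` and the cube twist is as
large as this allows.
-/

set_option autoImplicit false

namespace Cfsg.Agent.Lib.Golay

open Cfsg
open scoped Pointwise

/-! ### the generators -/

/-- Code of `x ↦ x + 1`. -/
def shiftCode : ℕ := 956302485175575353788796878166559809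

/-- Code of `x ↦ -1/x`. -/
def invCode : ℕ := 1795248432537898728475572672376535

/-- Code of the cube twist. -/
def twistCode : ℕ := 974380510768821363662145534143076928

theorem inM24_gens : inM24 shiftCode = true ∧ inM24 invCode = true ∧ inM24 twistCode = true := by
  decide +kernel

theorem shift_eq : Equiv.optionCongr (Equiv.addRight (1 : ZMod 23)) = gperm shiftCode :=
  eq_gperm (okCode_of_inM24 inM24_gens.1) (by decide +kernel)

theorem projInv_eq : projInv = gperm invCode :=
  eq_gperm (okCode_of_inM24 inM24_gens.2.1) (by decide +kernel)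

theorem cubeTwist_eq : cubeTwist = gperm twistCode :=
  eq_gperm (okCode_of_inM24 inM24_gens.2.2) fun p => by
    rw [cubeTwist, Equiv.ofBijective_apply]
    revert p
    decide +kernel

theorem shift_mem : Equiv.optionCongr (Equiv.addRight (1 : ZMod 23)) ∈ M24 := by
  rw [shift_eq]; exact gperm_mem_M24 inM24_gens.1

theorem projInv_mem : projInv ∈ M24 := by
  rw [projInv_eq]; exact gperm_mem_M24 inM24_gens.2.1

theorem cubeTwist_mem : cubeTwist ∈ M24 := by
  rw [cubeTwist_eq]; exact gperm_mem_M24 inM24_gens.2.2

/-! ### seven points determine an element -/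

/-- The first five base points. -/
def baseFive : Fin 5 ↪ GolayPt :=
  ⟨![none, some 0, some 1, some 2, some 3], by decide +kernel⟩

/-- The sixth base point. -/
def basePt6 : GolayPt := some 5

/-- The seventh base point. -/
def basePt7 : GolayPt := some 4

/-- The octad through the first six base points. -/
def baseOctad : Finset GolayPt := setOfMask 8536111

theorem baseOctad_mem : baseOctad ∈ octads := by
  refine ⟨setOfMask_mem_supports (by decide +kernel), ?_⟩
  rw [baseOctad, card_setOfMask]
  decide +kernel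

theorem baseFive_mem : ∀ i, baseFive i ∈ baseOctad := by decide +kernel

theorem basePt6_mem : basePt6 ∈ baseOctad ∧ ∀ i, baseFive i ≠ basePt6 := by decide +kernel

theorem basePt7_notMem : basePt7 ∉ baseOctad := by decide +kernel

/-- One step of the closure argument: the point with index `st.1` is the only point with its
incidences in the octads `st.2` that is not in `F`, and each of these octads has five points
in `F`. -/
def stepOk (F : ℕ) (st : ℕ × List ℕ) : Bool :=
  Nat.blt st.1 24 &&
    (st.2.all fun m => inCode m && Nat.beq (pc24 m) 8 && Nat.ble 5 (pc24 (m &&& F))) &&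
    (List.range 24).all fun q => Nat.beq q st.1 || F.testBit q ||
      st.2.any fun m => m.testBit q != m.testBit st.1

/-- Adding the points of the steps one by one to `F` reaches every point. -/
def closureOk : ℕ → List (ℕ × List ℕ) → Bool
  | F, [] => (List.range 24).all fun q => F.testBit q
  | F, st :: l => stepOk F st && closureOk (F ||| 2 ^ st.1) l

theorem fixed_step {g : Equiv.Perm GolayPt} (hg : g ∈ M24) {F : ℕ} {st : ℕ × List ℕ}
    (hst : stepOk F st = true) (hF : ∀ p ∈ setOfMask F, g p = p) :
    ∀ p ∈ setOfMask (F ||| 2 ^ st.1), g p = p := by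
  intro p hp
  rw [mem_setOfMask, Nat.testBit_or, Bool.or_eq_true, Nat.testBit_two_pow,
    decide_eq_true_eq] at hp
  rcases hp with hp | hp
  · exact hF p (mem_setOfMask.mpr hp)
  simp only [stepOk, Bool.and_eq_true, List.all_eq_true, Bool.or_eq_true, Nat.beq_eq,
    Nat.ble_eq, Nat.blt_eq, List.mem_range, List.any_eq_true, bne_iff_ne] at hst
  obtain ⟨⟨-, hms⟩, hsep⟩ := hst
  rcases hsep (idx (g p)) (idx_lt _) with (h | h) | ⟨m, hm, hne⟩
  · exact idx_injective (h.trans hp)
  · exact g.injective (hF (g p) (mem_setOfMask.mpr h))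
  · obtain ⟨⟨hc, h8⟩, h5⟩ := hms m hm
    have hfix : g • setOfMask m = setOfMask m := by
      refine smul_octad_eq hg ⟨setOfMask_mem_supports hc, by rw [card_setOfMask, h8]⟩
        (s := setOfMask (m &&& F)) (by rw [card_setOfMask]; exact h5) ?_ ?_
      · intro q hq
        rw [mem_setOfMask, Nat.testBit_and, Bool.and_eq_true] at hq
        exact mem_setOfMask.mpr hq.1
      · intro q hq
        rw [mem_setOfMask, Nat.testBit_and, Bool.and_eq_true] at hq
        exact hF q (mem_setOfMask.mpr hq.2)
    have hiff : g p ∈ setOfMask m ↔ p ∈ setOfMask m := by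
      conv_lhs => rw [← hfix, ← Equiv.Perm.smul_def]
      exact Finset.smul_mem_smul_finset_iff g
    rw [mem_setOfMask, mem_setOfMask, ← hp] at hiff
    exact absurd (Bool.eq_iff_iff.mpr hiff) (hp ▸ hne)

theorem fixed_closure {g : Equiv.Perm GolayPt} (hg : g ∈ M24) :
    ∀ (l : List (ℕ × List ℕ)) (F : ℕ), closureOk F l = true →
      (∀ p ∈ setOfMask F, g p = p) → g = 1
  | [], F, h, hF => by
    simp only [closureOk, List.all_eq_true, List.mem_range] at h
    exact Equiv.ext fun p => hF p (mem_setOfMask.mpr (h _ (idx_lt p)))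
  | st :: l, F, h, hF => by
    simp only [closureOk, Bool.and_eq_true] at h
    exact fixed_closure hg l _ h.2 (fixed_step hg h.1 hF)

/-- The closure certificate for the seven base points. -/
def baseSteps : List (ℕ × List ℕ) :=
  [(6, [8683614, 2162811]), (7, [8978620, 12599513]), (8, [8421811, 5275709]),
   (15, [8421811]), (18, [8683614]), (9, [786999, 9347075]), (16, [8716939]), (19, [8978620]),
   (21, [10846245]), (10, [2921478, 14716939]), (11, [10554382]), (12, [2921478]),
   (13, [2207772]), (14, [5902343]), (17, [9347075]), (20, [13062145]), (22, [])]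

/-- The mask of the seven base points. -/
def baseMask : ℕ := 8388671

theorem baseSteps_ok : closureOk baseMask baseSteps = true := by decide +kernel

theorem baseMask_spec : ∀ p ∈ setOfMask baseMask,
    (∃ i, baseFive i = p) ∨ p = basePt6 ∨ p = basePt7 := by decide +kernel

theorem eq_one_of_base {g : Equiv.Perm GolayPt} (hg : g ∈ M24)
    (h5 : ∀ i, g (baseFive i) = baseFive i) (h6 : g basePt6 = basePt6)
    (h7 : g basePt7 = basePt7) : g = 1 :=
  fixed_closure hg baseSteps baseMask baseSteps_ok fun p hp => by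
    rcases baseMask_spec p hp with ⟨i, rfl⟩ | rfl | rfl
    exacts [h5 i, h6, h7]

theorem eq_of_base {g h : Equiv.Perm GolayPt} (hg : g ∈ M24) (hh : h ∈ M24)
    (h5 : ∀ i, g (baseFive i) = h (baseFive i)) (h6 : g basePt6 = h basePt6)
    (h7 : g basePt7 = h basePt7) : g = h := by
  have h1 : h⁻¹ * g = 1 := by
    refine eq_one_of_base (Subgroup.mul_mem _ (Subgroup.inv_mem _ hh) hg) (fun i => ?_) ?_ ?_ <;>
      simp [Equiv.Perm.mul_apply, h5, h6, h7]
  exact (inv_mul_eq_one.mp h1).symm

/-- The range of a tuple of points. -/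
def rangeOf {n : ℕ} (x : Fin n ↪ GolayPt) : Finset GolayPt := Finset.univ.map x

/-- The octad through five points. -/
noncomputable def octadOf (x : Fin 5 ↪ GolayPt) : Finset GolayPt :=
  (octads_steiner.2 (rangeOf x) (by simp [rangeOf])).choose

theorem octadOf_spec (x : Fin 5 ↪ GolayPt) : octadOf x ∈ octads ∧ ∀ i, x i ∈ octadOf x :=
  have h := (octads_steiner.2 (rangeOf x) (by simp [rangeOf])).choose_spec.1
  ⟨h.1, fun _ => h.2 (Finset.mem_map_of_mem _ (Finset.mem_univ _))⟩

theorem eq_octadOf {x : Fin 5 ↪ GolayPt} {o : Finset GolayPt} (ho : o ∈ octads)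
    (hx : ∀ i, x i ∈ o) : o = octadOf x := by
  refine octad_unique ho (octadOf_spec x).1 (s := rangeOf x) (by simp [rangeOf]) ?_ ?_ <;>
    intro p hp <;> simp only [rangeOf, Finset.mem_map, Finset.mem_univ, true_and] at hp <;>
    obtain ⟨i, rfl⟩ := hp
  exacts [hx i, (octadOf_spec x).2 i]

theorem rangeOf_subset_octadOf (x : Fin 5 ↪ GolayPt) : rangeOf x ⊆ octadOf x := by
  intro p hp
  simp only [rangeOf, Finset.mem_map, Finset.mem_univ, true_and] at hp
  obtain ⟨i, rfl⟩ := hp
  exact (octadOf_spec x).2 i

/-- The possible images of the seven base points. -/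
noncomputable def baseImages :
    Finset ((_ : Fin 5 ↪ GolayPt) × (GolayPt × GolayPt)) :=
  (Finset.univ : Finset (Fin 5 ↪ GolayPt)).sigma fun x =>
    (octadOf x \ rangeOf x) ×ˢ (octadOf x)ᶜ

theorem card_baseImages : baseImages.card = 244823040 := by
  have h : ∀ x : Fin 5 ↪ GolayPt,
      ((octadOf x \ rangeOf x) ×ˢ (octadOf x)ᶜ).card = 48 := by
    intro x
    rw [Finset.card_product, Finset.card_sdiff_of_subset (rangeOf_subset_octadOf x),
      Finset.card_compl, (octadOf_spec x).1.2, card_golayPt, rangeOf, Finset.card_map,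
      Finset.card_univ, Fintype.card_fin]
  rw [baseImages, Finset.card_sigma, Finset.sum_congr rfl fun x _ => h x, Finset.sum_const,
    Finset.card_univ, Fintype.card_embedding_eq, card_golayPt, Fintype.card_fin, smul_eq_mul]
  decide +kernel

/-- The images of the seven base points. -/
noncomputable def baseMap (g : M24) : baseImages :=
  ⟨⟨baseFive.trans (g : Equiv.Perm GolayPt).toEmbedding,
    ((g : Equiv.Perm GolayPt) basePt6, (g : Equiv.Perm GolayPt) basePt7)⟩, by
    have ho : (g : Equiv.Perm GolayPt) • baseOctad =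
        octadOf (baseFive.trans (g : Equiv.Perm GolayPt).toEmbedding) :=
      eq_octadOf (smul_mem_octads g.2 baseOctad_mem)
        (fun i => Finset.mem_smul_finset.mpr ⟨_, baseFive_mem i, rfl⟩)
    simp only [baseImages, Finset.mem_sigma, Finset.mem_univ, true_and, Finset.mem_product,
      Finset.mem_sdiff, Finset.mem_compl, ← ho]
    refine ⟨⟨Finset.mem_smul_finset.mpr ⟨_, basePt6_mem.1, rfl⟩, ?_⟩, ?_⟩
    · simp only [rangeOf, Finset.mem_map, Finset.mem_univ, true_and, not_exists]
      intro i h
      exact basePt6_mem.2 i ((g : Equiv.Perm GolayPt).injective h)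
    · rw [← Equiv.Perm.smul_def, Finset.smul_mem_smul_finset_iff]
      exact basePt7_notMem⟩

theorem baseMap_injective : Function.Injective baseMap := by
  intro g h hgh
  have h1 := congrArg Subtype.val hgh
  simp only [baseMap, Sigma.mk.injEq, heq_eq_eq, Prod.mk.injEq] at h1
  exact Subtype.ext (eq_of_base g.2 h.2 (fun i => DFunLike.congr_fun h1.1 i) h1.2.1 h1.2.2)

theorem card_M24_le : Nat.card M24 ≤ 244823040 := by
  refine (Nat.card_le_card_of_injective baseMap baseMap_injective).trans ?_
  rw [Nat.card_eq_finsetCard, card_baseImages]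

/-- The group generated by the three standard elements. -/
noncomputable def genGroup : Subgroup (Equiv.Perm GolayPt) :=
  Subgroup.closure {Equiv.optionCongr (Equiv.addRight (1 : ZMod 23)), projInv, cubeTwist}

theorem card_genGroup : Nat.card genGroup = 244823040 := by
  have himg : ({Equiv.optionCongr (Equiv.addRight (1 : ZMod 23)), projInv, cubeTwist} :
      Set (Equiv.Perm GolayPt)) =
      indexHom.toMonoidHom '' (Computation.decodeP 24 5 '' {s | s ∈ Cert.m24_gens}) := by
    have : Cert.m24_gens = [shiftCode, invCode, twistCode] := by decide +kernel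
    rw [this, shift_eq, projInv_eq, cubeTwist_eq, Set.image_image]
    ext σ
    simp [gperm, eq_comm]
  rw [genGroup, himg, ← MonoidHom.map_closure,
    Subgroup.card_map_of_injective indexHom.injective]
  exact ((Computation.permRep 24 5 (by decide)).card_closure Cert.m24_check).trans Cert.m24_order

theorem genGroup_le : genGroup ≤ M24 := by
  rw [genGroup, Subgroup.closure_le]
  rintro σ (rfl | rfl | rfl)
  exacts [shift_mem, projInv_mem, cubeTwist_mem]

theorem closure_gens_eq : genGroup = M24 :=
  Subgroup.eq_of_le_of_card_ge genGroup_le (card_M24_le.trans card_genGroup.ge)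

theorem card_M24 : Nat.card M24 = 244823040 := by rw [← closure_gens_eq, card_genGroup]

theorem baseMap_bijective : Function.Bijective baseMap :=
  (Nat.bijective_iff_injective_and_card baseMap).mpr
    ⟨baseMap_injective, by rw [card_M24, Nat.card_eq_finsetCard, card_baseImages]⟩

/-- Any valid images of the seven base points are attained. -/
theorem exists_mem_of_images (x : Fin 5 ↪ GolayPt) {o : Finset GolayPt} (ho : o ∈ octads)
    (hx : ∀ i, x i ∈ o) {y z : GolayPt} (hy : y ∈ o) (hy' : ∀ i, x i ≠ y) (hz : z ∉ o) :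
    ∃ g ∈ M24, (∀ i, g (baseFive i) = x i) ∧ g basePt6 = y ∧ g basePt7 = z := by
  obtain rfl := eq_octadOf ho hx
  have hm : (⟨x, (y, z)⟩ : (_ : Fin 5 ↪ GolayPt) × (GolayPt × GolayPt)) ∈ baseImages := by
    simp only [baseImages, Finset.mem_sigma, Finset.mem_univ, true_and, Finset.mem_product,
      Finset.mem_sdiff, Finset.mem_compl, rangeOf, Finset.mem_map, not_exists]
    exact ⟨⟨hy, hy'⟩, hz⟩
  obtain ⟨g, hg⟩ := baseMap_bijective.2 ⟨_, hm⟩
  have h1 := congrArg Subtype.val hg
  simp only [baseMap, Sigma.mk.injEq, heq_eq_eq, Prod.mk.injEq] at h1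
  exact ⟨g, g.2, fun i => DFunLike.congr_fun h1.1 i, h1.2.1, h1.2.2⟩

theorem exists_mem_of_five (x : Fin 5 ↪ GolayPt) :
    ∃ g ∈ M24, ∀ i, g (baseFive i) = x i := by
  obtain ⟨ho, hx⟩ := octadOf_spec x
  obtain ⟨y, hy⟩ : (octadOf x \ rangeOf x).Nonempty := by
    rw [← Finset.card_pos, Finset.card_sdiff_of_subset (rangeOf_subset_octadOf x), ho.2,
      rangeOf, Finset.card_map, Finset.card_univ, Fintype.card_fin]
    norm_num
  obtain ⟨z, hz⟩ : ((octadOf x)ᶜ).Nonempty := by
    rw [← Finset.card_pos, Finset.card_compl, ho.2, card_golayPt]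
    norm_num
  simp only [Finset.mem_sdiff, rangeOf, Finset.mem_map, Finset.mem_univ, true_and,
    not_exists] at hy
  obtain ⟨g, hg, h5, -, -⟩ := exists_mem_of_images x ho hx hy.1 hy.2 (Finset.mem_compl.mp hz)
  exact ⟨g, hg, h5⟩

/-- The group of the code is 5-transitive. -/
theorem exists_map_five (x y : Fin 5 ↪ GolayPt) : ∃ g ∈ M24, ∀ i, g (x i) = y i := by
  obtain ⟨a, ha, hax⟩ := exists_mem_of_five x
  obtain ⟨b, hb, hby⟩ := exists_mem_of_five y
  refine ⟨b * a⁻¹, Subgroup.mul_mem _ hb (Subgroup.inv_mem _ ha), fun i => ?_⟩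
  rw [Equiv.Perm.mul_apply, ← hax i, Equiv.Perm.inv_def, Equiv.symm_apply_apply, hby]

theorem multiply_pretransitive : MulAction.IsMultiplyPretransitive M24 GolayPt 5 := by
  refine ⟨fun x y => ?_⟩
  obtain ⟨g, hg, h⟩ := exists_map_five x y
  exact ⟨⟨g, hg⟩, DFunLike.ext _ _ fun i => h i⟩

theorem transitive_octads {o o' : Finset GolayPt} (ho : o ∈ octads) (ho' : o' ∈ octads) :
    ∃ g ∈ M24, g • o = o' := by
  obtain ⟨s, hs, hsc⟩ := Finset.exists_subset_card_eq (n := 5) (s := o) (by rw [ho.2]; norm_num)
  obtain ⟨t, ht, htc⟩ := Finset.exists_subset_card_eq (n := 5) (s := o') (by rw [ho'.2]; norm_num)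
  let x : Fin 5 ↪ GolayPt := (s.equivFinOfCardEq hsc).symm.toEmbedding.trans (.subtype _)
  let y : Fin 5 ↪ GolayPt := (t.equivFinOfCardEq htc).symm.toEmbedding.trans (.subtype _)
  obtain ⟨g, hg, hxy⟩ := exists_map_five x y
  refine ⟨g, hg, ?_⟩
  have h1 : g • o = octadOf y := eq_octadOf (smul_mem_octads hg ho) fun i => by
    rw [← hxy i]
    exact Finset.mem_smul_finset.mpr ⟨x i, hs ((s.equivFinOfCardEq hsc).symm i).2, rfl⟩
  rw [h1]
  exact (eq_octadOf ho' fun i => ht ((t.equivFinOfCardEq htc).symm i).2).symm

end Cfsg.Agent.Lib.Golay
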