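import Cfsg.Agent.Lib.Golay.Octads

/-!
# Octads relative to a dodecad: the S(5,6,12) and the counts 132, 495, 132
-/

set_option autoImplicit false

namespace Cfsg.Agent.Lib.Golay

open Cfsg

theorem inter_octad_dodecad {o d : Finset GolayPt} (ho : o ∈ octads) (hd : d ∈ dodecads) :
    (o ∩ d).card = 2 ∨ (o ∩ d).card = 4 ∨ (o ∩ d).card = 6 := by
  have h1 := Finset.card_sdiff_add_card_inter o d
  have h2 := Finset.card_sdiff_add_card_inter d o
  have h3 := card_of_mem_supports (supports_symmDiff ho.1 hd.1)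
  rw [symmDiff_def, Finset.sup_eq_union,
    Finset.card_union_of_disjoint disjoint_sdiff_sdiff] at h3
  rw [Finset.inter_comm d o] at h2
  have := ho.2
  have := hd.2
  omega

/-- The hexads of a dodecad, as subsets of its subtype. -/
def hexadSystem (d : Finset GolayPt) : Set (Finset {p : GolayPt // p ∈ d}) :=
  {h | ∃ o ∈ octads, (o ∩ d).card = 6 ∧ h = Finset.subtype (fun p => p ∈ d) o}

theorem card_subtype_inter (o d : Finset GolayPt) :
    (Finset.subtype (fun p => p ∈ d) o).card = (o ∩ d).card := by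
  rw [Finset.card_subtype, Finset.filter_mem_eq_inter]

theorem hexadSystem_steiner {d : Finset GolayPt} (hd : d ∈ dodecads) :
    IsSteinerSystem 5 6 (hexadSystem d) := by
  constructor
  · rintro _ ⟨o, -, h6, rfl⟩
    rw [card_subtype_inter, h6]
  · intro s hs
    set s' : Finset GolayPt := s.map (Function.Embedding.subtype _) with hs'
    have hs5 : s'.card = 5 := by rw [hs', Finset.card_map, hs]
    obtain ⟨o, ⟨ho, hso⟩, -⟩ := octads_steiner.2 s' hs5
    have hsd : s' ⊆ o ∩ d := by
      intro p hp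
      obtain ⟨q, hq, rfl⟩ := Finset.mem_map.mp hp
      exact Finset.mem_inter.mpr ⟨hso hp, q.2⟩
    have h6 : (o ∩ d).card = 6 := by
      have := Finset.card_le_card hsd
      rcases inter_octad_dodecad ho hd with h | h | h <;> omega
    refine ⟨Finset.subtype _ o, ⟨⟨o, ho, h6, rfl⟩, fun q hq =>
      Finset.mem_subtype.mpr (hso (Finset.mem_map_of_mem _ hq))⟩, ?_⟩
    rintro _ ⟨⟨o', ho', -, rfl⟩, hso'⟩
    rw [octad_unique ho' ho hs5.ge ?_ hso]
    intro p hp
    obtain ⟨q, hq, rfl⟩ := Finset.mem_map.mp hp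
    exact Finset.mem_subtype.mp (hso' hq)

/-- The octads meeting `d` in `k` points. -/
def octadsMeeting (d : Finset GolayPt) (k : ℕ) : Set (Finset GolayPt) :=
  {o | o ∈ octads ∧ (o ∩ d).card = k}

theorem ncard_meeting_six {d : Finset GolayPt} (hd : d ∈ dodecads) :
    (octadsMeeting d 6).ncard = 132 := by
  have him : hexadSystem d = (fun o => Finset.subtype (fun p => p ∈ d) o) '' octadsMeeting d 6 := by
    ext h
    constructor
    · rintro ⟨o, ho, h6, rfl⟩; exact ⟨o, ⟨ho, h6⟩, rfl⟩
    · rintro ⟨o, ⟨ho, h6⟩, rfl⟩; exact ⟨o, ho, h6, rfl⟩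
  have hinj : Set.InjOn (fun o => Finset.subtype (fun p => p ∈ d) o) (octadsMeeting d 6) := by
    rintro o ⟨ho, h6⟩ o' ⟨ho', -⟩ h
    refine octad_unique ho ho' (s := o ∩ d) (by omega) Finset.inter_subset_left ?_
    intro p hp
    have hp' := Finset.mem_inter.mp hp
    have h' : Finset.subtype (fun p => p ∈ d) o = Finset.subtype (fun p => p ∈ d) o' := h
    have : (⟨p, hp'.2⟩ : {p // p ∈ d}) ∈ Finset.subtype (fun p => p ∈ d) o' := by
      rw [← h']
      exact Finset.mem_subtype.mpr hp'.1
    exact Finset.mem_subtype.mp this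
  have h := Steiner.ncard_mul_choose (hexadSystem_steiner hd)
  rw [him, hinj.ncard_image, Fintype.card_coe, hd.2,
    show Nat.choose 6 5 = 6 from rfl, show Nat.choose 12 5 = 792 from rfl] at h
  omega

theorem compl_mem_dodecads_aux {d : Finset GolayPt} (hd : d ∈ dodecads) : dᶜ ∈ dodecads := by
  refine ⟨?_, by rw [Finset.card_compl, hd.2, card_golayPt]⟩
  have : dᶜ = symmDiff d Finset.univ := by ext p; simp [Finset.mem_symmDiff]
  rw [this]
  exact supports_symmDiff hd.1 univ_mem_supports

theorem meeting_compl {d : Finset GolayPt} {j k : ℕ} (hjk : j + k = 8) :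
    octadsMeeting d j = octadsMeeting dᶜ k := by
  ext o
  refine and_congr_right fun ho => ?_
  have h := Finset.card_sdiff_add_card_inter o d
  have he : o ∩ dᶜ = o \ d := by ext p; simp
  rw [he]
  have := ho.2
  omega

theorem ncard_meeting_two {d : Finset GolayPt} (hd : d ∈ dodecads) :
    (octadsMeeting d 2).ncard = 132 := by
  rw [meeting_compl (k := 6) rfl]
  exact ncard_meeting_six (compl_mem_dodecads_aux hd)

theorem ncard_meeting_four {d : Finset GolayPt} (hd : d ∈ dodecads) :
    (octadsMeeting d 4).ncard = 495 := by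
  have hu : octads = (octadsMeeting d 6 ∪ octadsMeeting d 2) ∪ octadsMeeting d 4 := by
    ext o
    simp only [octadsMeeting, Set.mem_union, Set.mem_ofPred_eq]
    constructor
    · intro ho
      rcases inter_octad_dodecad ho hd with h | h | h <;> simp [ho, h]
    · tauto
  have hdis : ∀ i j : ℕ, i ≠ j → Disjoint (octadsMeeting d i) (octadsMeeting d j) := fun i j h =>
    Set.disjoint_left.mpr fun o hi hj => h (hi.2.symm.trans hj.2)
  have h := ncard_octads
  rw [hu, Set.ncard_union_eq (Set.disjoint_union_left.mpr ⟨hdis 6 4 (by norm_num),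
      hdis 2 4 (by norm_num)⟩) (Set.toFinite _) (Set.toFinite _),
    Set.ncard_union_eq (hdis 6 2 (by norm_num)) (Set.toFinite _) (Set.toFinite _),
    ncard_meeting_six hd, ncard_meeting_two hd] at h
  omega

end Cfsg.Agent.Lib.Golay
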