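import Mathlib
import Cfsg.Prelude.Def_Sporadic_a

/-!
# Counting in Steiner systems
-/

set_option autoImplicit false
set_option linter.unusedSectionVars false

namespace Cfsg.Agent.Lib.Golay.Steiner

open Cfsg Finset

variable {α : Type*} [Fintype α] [DecidableEq α] {t k : ℕ} {B : Set (Finset α)}

/-- The blocks as a finset. -/
noncomputable def blocks (B : Set (Finset α)) : Finset (Finset α) := B.toFinite.toFinset

@[simp] theorem mem_blocks {b : Finset α} : b ∈ blocks B ↔ b ∈ B := by simp [blocks]

theorem card_blocks : (blocks B).card = B.ncard :=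
  (Set.ncard_eq_toFinset_card B).symm

/-- The blocks through a given set. -/
noncomputable def through (B : Set (Finset α)) (S : Finset α) : Finset (Finset α) :=
  (blocks B).filter (S ⊆ ·)

theorem eq_of_subset (hB : IsSteinerSystem t k B) {b c s : Finset α} (hb : b ∈ B) (hc : c ∈ B)
    (hs : t ≤ s.card) (hsb : s ⊆ b) (hsc : s ⊆ c) : b = c := by
  obtain ⟨u, hu, hucard⟩ := Finset.exists_subset_card_eq hs
  obtain ⟨d, -, hd⟩ := hB.2 u hucard
  rw [hd b ⟨hb, hu.trans hsb⟩, hd c ⟨hc, hu.trans hsc⟩]

theorem card_inter_lt (hB : IsSteinerSystem t k B) {b c : Finset α} (hb : b ∈ B) (hc : c ∈ B)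
    (hbc : b ≠ c) : (b ∩ c).card < t := by
  by_contra h
  exact hbc (eq_of_subset hB hb hc (not_lt.mp h) inter_subset_left inter_subset_right)

/-- The number of blocks through a set of at most `t` points. -/
theorem card_through (hB : IsSteinerSystem t k B) (S : Finset α) (hS : S.card ≤ t) :
    (through B S).card * Nat.choose (k - S.card) (t - S.card) =
      Nat.choose (Fintype.card α - S.card) (t - S.card) := by
  have hb : ∀ b ∈ through B S, (powersetCard (t - S.card) (b \ S)).card
      = Nat.choose (k - S.card) (t - S.card) := by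
    intro b hb
    simp only [through, mem_filter, mem_blocks] at hb
    rw [card_powersetCard, card_sdiff_of_subset hb.2, hB.1 b hb.1]
  rw [← smul_eq_mul, ← Finset.sum_const, ← Finset.sum_congr rfl hb, ← card_compl,
    ← card_powersetCard (t - S.card) Sᶜ, ← card_biUnion]
  · congr 1
    ext T
    simp only [mem_biUnion, mem_powersetCard, through, mem_filter, mem_blocks]
    constructor
    · rintro ⟨b, -, hT, hc⟩
      exact ⟨fun x hx => mem_compl.mpr (Finset.mem_sdiff.mp (hT hx)).2, hc⟩
    · rintro ⟨hT, hc⟩
      have hd : Disjoint S T := disjoint_left.mpr fun x hxS hxT => mem_compl.mp (hT hxT) hxS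
      obtain ⟨b, ⟨hb, hsub⟩, -⟩ := hB.2 (S ∪ T) (by rw [card_union_of_disjoint hd]; omega)
      exact ⟨b, ⟨hb, subset_union_left.trans hsub⟩, fun x hx => Finset.mem_sdiff.mpr
        ⟨hsub (subset_union_right hx), mem_compl.mp (hT hx)⟩, hc⟩
  · intro b hb c hc hbc
    simp only [through, coe_filter, mem_blocks, Set.mem_ofPred_eq] at hb hc
    rw [Function.onFun, disjoint_left]
    intro T hTb hTc
    rw [mem_powersetCard] at hTb hTc
    refine hbc (eq_of_subset hB (s := S ∪ T) hb.1 hc.1 ?_ ?_ ?_)
    · rw [card_union_of_disjoint (disjoint_left.mpr fun x hxS hxT =>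
        (Finset.mem_sdiff.mp (hTb.1 hxT)).2 hxS), hTb.2]
      omega
    · exact union_subset hb.2 (hTb.1.trans sdiff_subset)
    · exact union_subset hc.2 (hTc.1.trans sdiff_subset)

theorem ncard_mul_choose (hB : IsSteinerSystem t k B) :
    B.ncard * Nat.choose k t = Nat.choose (Fintype.card α) t := by
  have h := card_through hB ∅ (by simp)
  simpa [through, card_blocks] using h

/-- The blocks other than `b` meeting it in exactly `i` points. -/
noncomputable def meeting (B : Set (Finset α)) (b : Finset α) (i : ℕ) : Finset (Finset α) :=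
  ((blocks B).erase b).filter fun c => (b ∩ c).card = i

theorem mem_meeting {b c : Finset α} {i : ℕ} :
    c ∈ meeting B b i ↔ c ∈ B ∧ c ≠ b ∧ (b ∩ c).card = i := by
  simp only [meeting, mem_filter, mem_erase, mem_blocks]
  tauto

theorem card_meeting_pos {b c : Finset α} (hc : c ∈ B) (hbc : b ≠ c) :
    0 < (meeting B b (b ∩ c).card).card :=
  Finset.card_pos.mpr ⟨c, mem_meeting.mpr ⟨hc, hbc.symm, rfl⟩⟩

/-- Double counting of the pairs `(S, c)` with `S` a `j`-subset of `b` inside another block `c`. -/
theorem meeting_equation (hB : IsSteinerSystem t k B) {b : Finset α} (hb : b ∈ B) {j : ℕ}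
    (hj : j ≤ t) (lam : ℕ) (hk : t ≤ k)
    (hlam : (lam + 1) * Nat.choose (k - j) (t - j) = Nat.choose (Fintype.card α - j) (t - j)) :
    ∑ i ∈ Finset.range t, (meeting B b i).card * Nat.choose i j = Nat.choose k j * lam := by
  have hcount : ∀ S ∈ powersetCard j b,
      (((blocks B).erase b).filter (S ⊆ ·)).card = lam := by
    intro S hS
    rw [mem_powersetCard] at hS
    have h := card_through hB S (by omega)
    rw [hS.2] at h
    have hpos : 0 < Nat.choose (k - j) (t - j) := Nat.choose_pos (by omega)
    have h1 : (through B S).card = lam + 1 := Nat.eq_of_mul_eq_mul_right hpos (by rw [h, hlam])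
    rw [filter_erase, card_erase_of_mem (by simp [hb, hS.1])]
    simp only [through] at h1
    omega
  calc ∑ i ∈ Finset.range t, (meeting B b i).card * Nat.choose i j
      = ∑ c ∈ (blocks B).erase b, Nat.choose (b ∩ c).card j := by
        rw [← Finset.sum_fiberwise_of_maps_to (g := fun c => (b ∩ c).card) (t := Finset.range t)]
        · refine Finset.sum_congr rfl fun i _ => ?_
          rw [← smul_eq_mul, ← Finset.sum_const]
          exact Finset.sum_congr rfl fun c hc => by rw [(Finset.mem_filter.mp hc).2]
        · intro c hc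
          rw [Finset.mem_erase, mem_blocks] at hc
          exact Finset.mem_range.mpr (card_inter_lt hB hb hc.2 hc.1.symm)
    _ = ∑ c ∈ (blocks B).erase b, ((powersetCard j b).filter (· ⊆ c)).card := by
        refine Finset.sum_congr rfl fun c _ => ?_
        rw [← card_powersetCard]
        congr 1
        ext S
        simp only [mem_powersetCard, mem_filter, subset_inter_iff]
        tauto
    _ = ∑ S ∈ powersetCard j b, (((blocks B).erase b).filter (S ⊆ ·)).card := by
        simp only [Finset.card_filter]
        exact Finset.sum_comm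
    _ = Nat.choose k j * lam := by
        rw [Finset.sum_congr rfl hcount, Finset.sum_const, card_powersetCard, hB.1 b hb,
          smul_eq_mul]

/-- The intersection numbers of a block of an S(5,8,24). -/
theorem meeting_five (hα : Fintype.card α = 24) (hB : IsSteinerSystem 5 8 B) {b : Finset α}
    (hb : b ∈ B) :
    (meeting B b 0).card = 30 ∧ (meeting B b 1).card = 0 ∧ (meeting B b 2).card = 448 ∧
      (meeting B b 3).card = 0 ∧ (meeting B b 4).card = 280 := by
  have e0 := meeting_equation hB hb (j := 0) (by omega) 758 (by omega) (by rw [hα]; decide)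
  have e1 := meeting_equation hB hb (j := 1) (by omega) 252 (by omega) (by rw [hα]; decide)
  have e2 := meeting_equation hB hb (j := 2) (by omega) 76 (by omega) (by rw [hα]; decide)
  have e3 := meeting_equation hB hb (j := 3) (by omega) 20 (by omega) (by rw [hα]; decide)
  have e4 := meeting_equation hB hb (j := 4) (by omega) 4 (by omega) (by rw [hα]; decide)
  simp [Finset.sum_range_succ, Nat.choose] at e0 e1 e2 e3 e4
  omega

theorem inter_five (hα : Fintype.card α = 24) (hB : IsSteinerSystem 5 8 B) {b c : Finset α}
    (hb : b ∈ B) (hc : c ∈ B) (hbc : b ≠ c) :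
    (b ∩ c).card = 0 ∨ (b ∩ c).card = 2 ∨ (b ∩ c).card = 4 := by
  obtain ⟨-, h1, -, h3, -⟩ := meeting_five hα hB hb
  have hp := card_meeting_pos (B := B) (b := b) hc hbc
  have hlt := card_inter_lt hB hb hc hbc
  generalize (b ∩ c).card = n at *
  interval_cases n <;> omega

/-- The intersection numbers of a block of an S(4,7,23). -/
theorem meeting_four (hα : Fintype.card α = 23) (hB : IsSteinerSystem 4 7 B) {b : Finset α}
    (hb : b ∈ B) :
    (meeting B b 0).card = 0 ∧ (meeting B b 1).card = 112 ∧ (meeting B b 2).card = 0 ∧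
      (meeting B b 3).card = 140 := by
  have e0 := meeting_equation hB hb (j := 0) (by omega) 252 (by omega) (by rw [hα]; decide)
  have e1 := meeting_equation hB hb (j := 1) (by omega) 76 (by omega) (by rw [hα]; decide)
  have e2 := meeting_equation hB hb (j := 2) (by omega) 20 (by omega) (by rw [hα]; decide)
  have e3 := meeting_equation hB hb (j := 3) (by omega) 4 (by omega) (by rw [hα]; decide)
  simp [Finset.sum_range_succ, Nat.choose] at e0 e1 e2 e3
  omega

/-- The intersection numbers of a block of an S(3,6,22). -/
theorem meeting_three (hα : Fintype.card α = 22) (hB : IsSteinerSystem 3 6 B) {b : Finset α}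
    (hb : b ∈ B) :
    (meeting B b 0).card = 16 ∧ (meeting B b 1).card = 0 ∧ (meeting B b 2).card = 60 := by
  have e0 := meeting_equation hB hb (j := 0) (by omega) 76 (by omega) (by rw [hα]; decide)
  have e1 := meeting_equation hB hb (j := 1) (by omega) 20 (by omega) (by rw [hα]; decide)
  have e2 := meeting_equation hB hb (j := 2) (by omega) 4 (by omega) (by rw [hα]; decide)
  simp [Finset.sum_range_succ, Nat.choose] at e0 e1 e2
  omega

/-- The intersection numbers of a block of an S(5,6,12). -/
theorem meeting_twelve (hα : Fintype.card α = 12) (hB : IsSteinerSystem 5 6 B) {b : Finset α}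
    (hb : b ∈ B) :
    (meeting B b 0).card = 1 ∧ (meeting B b 1).card = 0 ∧ (meeting B b 2).card = 45 ∧
      (meeting B b 3).card = 40 ∧ (meeting B b 4).card = 45 := by
  have e0 := meeting_equation hB hb (j := 0) (by omega) 131 (by omega) (by rw [hα]; decide)
  have e1 := meeting_equation hB hb (j := 1) (by omega) 65 (by omega) (by rw [hα]; decide)
  have e2 := meeting_equation hB hb (j := 2) (by omega) 29 (by omega) (by rw [hα]; decide)
  have e3 := meeting_equation hB hb (j := 3) (by omega) 11 (by omega) (by rw [hα]; decide)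
  have e4 := meeting_equation hB hb (j := 4) (by omega) 3 (by omega) (by rw [hα]; decide)
  simp [Finset.sum_range_succ, Nat.choose] at e0 e1 e2 e3 e4
  omega

/-- The derived system at a point. -/
theorem derived (hB : IsSteinerSystem (t + 1) (k + 1) B) (p : α) :
    IsSteinerSystem t k {b' : Finset {a : α // a ≠ p} |
      ∃ b ∈ B, p ∈ b ∧ b' = Finset.subtype (fun a => a ≠ p) b} := by
  constructor
  · rintro _ ⟨b, hb, hpb, rfl⟩
    rw [card_subtype, filter_ne', card_erase_of_mem hpb, hB.1 b hb, Nat.add_sub_cancel]
  · intro s hs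
    set s' : Finset α := s.map (Function.Embedding.subtype _) with hs'
    have hp : p ∉ s' := by simp [hs']
    obtain ⟨b, ⟨hb, hsub⟩, huniq⟩ := hB.2 (insert p s') (by
      rw [card_insert_of_notMem hp, hs', card_map, hs])
    refine ⟨Finset.subtype _ b, ⟨⟨b, hb, hsub (mem_insert_self _ _), rfl⟩, ?_⟩, ?_⟩
    · intro x hx
      exact mem_subtype.mpr (hsub (mem_insert_of_mem (mem_map_of_mem _ hx)))
    · rintro _ ⟨⟨c, hc, hpc, rfl⟩, hsc⟩
      rw [huniq c ⟨hc, ?_⟩]
      intro x hx
      rcases mem_insert.mp hx with rfl | hx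
      · exact hpc
      · obtain ⟨y, hy, rfl⟩ := mem_map.mp hx
        exact mem_subtype.mp (hsc hy)

/-- A set with evenly many points in every block of an S(5,8,24) does not have four points. -/
theorem card_ne_four_of_even (hα : Fintype.card α = 24) (hB : IsSteinerSystem 5 8 B)
    {w : Finset α} (hw : ∀ e ∈ B, Even (w ∩ e).card) : w.card ≠ 4 := by
  intro h4
  obtain ⟨x, hx⟩ : w.Nonempty := Finset.card_pos.mp (by omega)
  have h3c : (w.erase x).card = 3 := by rw [card_erase_of_mem hx]; omega
  have h3 := card_through hB (w.erase x) (by omega)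
  have h4' := card_through hB w (by omega)
  rw [h3c, hα] at h3
  rw [h4, hα] at h4'
  norm_num [Nat.choose] at h3 h4'
  have hsub : through B w ⊆ through B (w.erase x) := fun e he => by
    simp only [through, mem_filter] at he ⊢
    exact ⟨he.1, (erase_subset _ _).trans he.2⟩
  have hne : through B w ≠ through B (w.erase x) := fun h => by rw [h] at h4'; omega
  obtain ⟨e, he, hne'⟩ := Finset.exists_of_ssubset (Finset.ssubset_iff_subset_ne.mpr ⟨hsub, hne⟩)
  simp only [through, mem_filter, mem_blocks, not_and] at he hne'
  have hxe : x ∉ e := fun hxe => hne' he.1 (by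
    intro y hy
    by_cases hyx : y = x
    · exact hyx ▸ hxe
    · exact he.2 (mem_erase.mpr ⟨hyx, hy⟩))
  have hi : w ∩ e = w.erase x := by
    ext y
    refine ⟨fun hy => mem_erase.mpr ⟨fun h => hxe (h ▸ (mem_inter.mp hy).2), (mem_inter.mp hy).1⟩,
      fun hy => mem_inter.mpr ⟨(mem_erase.mp hy).2, he.2 hy⟩⟩
  have := hw e he.1
  rw [hi, h3c, Nat.even_iff] at this
  omega

/-- An 8-set meeting every block of an S(5,8,24) evenly is a block. -/
theorem mem_of_even (hα : Fintype.card α = 24) (hB : IsSteinerSystem 5 8 B) {w : Finset α}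
    (hcard : w.card = 8) (hw : ∀ e ∈ B, Even (w ∩ e).card) : w ∈ B := by
  obtain ⟨s, hs, hscard⟩ := Finset.exists_subset_card_eq (n := 5) (s := w) (by omega)
  obtain ⟨d, ⟨hd, hsd⟩, -⟩ := hB.2 s hscard
  have h5 : 5 ≤ (w ∩ d).card := hscard ▸ card_le_card (subset_inter hs hsd)
  have hd8 := hB.1 d hd
  have h8 : (w ∩ d).card ≤ 8 := hcard ▸ card_le_card inter_subset_left
  have hev := hw d hd
  have hS : ∀ e ∈ B, Even (symmDiff w d ∩ e).card := by
    intro e he
    have key : ∀ x : Finset α, (symmDiff w d ∩ x).card + 2 * (w ∩ d ∩ x).card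
        = (w ∩ x).card + (d ∩ x).card := by
      intro x
      have h1 : symmDiff w d ∩ x = symmDiff (w ∩ x) (d ∩ x) := by
        ext a; simp [mem_symmDiff]; tauto
      have h2 : w ∩ d ∩ x = (w ∩ x) ∩ (d ∩ x) := by ext a; simp
      rw [h1, h2]
      generalize w ∩ x = A
      generalize d ∩ x = D
      have := card_union_add_card_inter A D
      have h3 : (symmDiff A D).card + (A ∩ D).card = (A ∪ D).card := by
        rw [← card_union_of_disjoint]
        · congr 1
          ext a; simp [mem_symmDiff]; tauto
        · rw [disjoint_left]; intro a; simp [mem_symmDiff]; tauto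
      omega
    have hde : Even (d ∩ e).card := by
      rcases eq_or_ne d e with rfl | hne
      · rw [inter_self, hd8]; decide
      · rcases inter_five hα hB hd he hne with h | h | h <;> rw [h] <;> decide
    have := key e
    have hwe := hw e he
    rw [Nat.even_iff] at hwe hde ⊢
    omega
  rw [Nat.even_iff] at hev
  rcases Nat.lt_or_ge (w ∩ d).card 8 with hlt | hge
  · exfalso
    have h6 : (w ∩ d).card = 6 := by omega
    refine card_ne_four_of_even hα hB hS ?_
    have h1 : symmDiff w d = (w \ d) ∪ (d \ w) := by ext a; simp [mem_symmDiff]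
    rw [h1, card_union_of_disjoint disjoint_sdiff_sdiff, card_sdiff, card_sdiff, inter_comm d w,
      h6, hcard, hd8]
  · have : w ∩ d = w := eq_of_subset_of_card_le inter_subset_left (by omega)
    have : w = d := eq_of_subset_of_card_le (inter_eq_left.mp this) (by omega)
    rw [this]; exact hd

end Cfsg.Agent.Lib.Golay.Steiner
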