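import Cfsg.Agent.Lib.Golay.Code
import Cfsg.Agent.Lib.Golay.Steiner

/-!
# The octads form an S(5,8,24), span the code and determine its group
-/

set_option autoImplicit false

namespace Cfsg.Agent.Lib.Golay

open Cfsg
open scoped Pointwise

theorem supports_symmDiff {s t : Finset GolayPt}
    (hs : s ∈ supports (golayCode : Set (GolayPt → ZMod 2)))
    (ht : t ∈ supports (golayCode : Set (GolayPt → ZMod 2))) :
    symmDiff s t ∈ supports (golayCode : Set (GolayPt → ZMod 2)) := by
  obtain ⟨v, hv, rfl⟩ := hs
  obtain ⟨w, hw, rfl⟩ := ht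
  refine ⟨v + w, golayCode.add_mem hv hw, ?_⟩
  ext p
  simp only [support₂, Finset.mem_filter, Finset.mem_univ, true_and, Finset.mem_symmDiff,
    Pi.add_apply]
  generalize v p = x
  generalize w p = y
  revert x y
  decide +kernel

theorem univ_mem_supports :
    (Finset.univ : Finset GolayPt) ∈ supports (golayCode : Set (GolayPt → ZMod 2)) :=
  ⟨1, one_mem, by ext p; simp [support₂]⟩

theorem octads_subset_supports : octads ⊆ supports (golayCode : Set (GolayPt → ZMod 2)) :=
  fun _ h => h.1

theorem dodecads_subset_supports : dodecads ⊆ supports (golayCode : Set (GolayPt → ZMod 2)) :=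
  fun _ h => h.1

theorem octad_unique {o o' s : Finset GolayPt} (ho : o ∈ octads) (ho' : o' ∈ octads)
    (hs : 5 ≤ s.card) (hso : s ⊆ o) (hso' : s ⊆ o') : o = o' := by
  by_contra hne
  have hcard := Finset.card_le_card (Finset.subset_inter hso hso')
  have h := eight_le_card (supports_symmDiff ho.1 ho'.1) (by
    rw [Finset.nonempty_iff_ne_empty]
    exact fun h => hne (symmDiff_eq_bot.mp h))
  rw [symmDiff_def, Finset.sup_eq_union,
    Finset.card_union_of_disjoint disjoint_sdiff_sdiff] at h
  have h1 := Finset.card_sdiff_add_card_inter o o'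
  have h2 := Finset.card_sdiff_add_card_inter o' o
  rw [Finset.inter_comm o' o] at h2
  have := ho.2
  have := ho'.2
  omega

theorem octads_steiner : IsSteinerSystem 5 8 octads := by
  refine ⟨fun b hb => hb.2, fun s hs => ?_⟩
  classical
  let P := (Steiner.blocks octads).biUnion fun b => Finset.powersetCard 5 b
  have hP : P = Finset.powersetCard 5 Finset.univ := by
    refine Finset.eq_of_subset_of_card_le ?_ ?_
    · intro u hu
      simp only [P, Finset.mem_biUnion, Finset.mem_powersetCard] at hu
      obtain ⟨b, -, -, hu⟩ := hu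
      simp [hu]
    · rw [Finset.card_biUnion, Finset.sum_congr rfl fun b hb => by
        rw [Finset.card_powersetCard, (Steiner.mem_blocks.mp hb).2], Finset.sum_const,
        Steiner.card_blocks, ncard_octads, Finset.card_powersetCard, Finset.card_univ,
        card_golayPt]
      · decide +kernel
      · intro b hb c hc hbc
        rw [Function.onFun, Finset.disjoint_left]
        intro u hub huc
        rw [Finset.mem_powersetCard] at hub huc
        simp only [Finset.mem_coe, Steiner.mem_blocks] at hb hc
        exact hbc (octad_unique hb hc hub.2.ge hub.1 huc.1)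
  have hmem : s ∈ P := by rw [hP]; simp [hs]
  simp only [P, Finset.mem_biUnion, Finset.mem_powersetCard, Steiner.mem_blocks] at hmem
  obtain ⟨b, hb, hsb, -⟩ := hmem
  exact ⟨b, ⟨hb, hsb⟩, fun c hc => octad_unique hc.1 hb hs.ge hc.2 hsb⟩

theorem rows_weight : (rows.all fun r => Nat.beq (pc24 r) 8) = true := by decide +kernel

theorem row_mem_octads {r : ℕ} (hr : r ∈ rows) : setOfMask r ∈ octads := by
  refine ⟨⟨_, rows_mem r hr, support₂_wordOfMask r⟩, ?_⟩
  rw [card_setOfMask]
  exact Nat.eq_of_beq_eq_true (List.all_eq_true.mp rows_weight r hr)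

theorem support₂_comp_symm (σ : Equiv.Perm GolayPt) (w : GolayPt → ZMod 2) :
    support₂ (w ∘ σ.symm) = σ • support₂ w := by
  ext p
  rw [← Finset.inv_smul_mem_iff, Equiv.Perm.smul_def]
  simp [support₂, Equiv.Perm.inv_def]

/-- It is enough that the twelve rows go into the code. -/
theorem mem_M24_of_rows {σ : Equiv.Perm GolayPt}
    (h : ∀ r ∈ rows, σ • setOfMask r ∈ supports (golayCode : Set (GolayPt → ZMod 2))) :
    σ ∈ M24 := by
  have hle : golayCode ≤ golayCode.comap (LinearMap.funLeft (ZMod 2) (ZMod 2) σ.symm) := by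
    conv_lhs => rw [golayCode_eq_span_rows]
    rw [Submodule.span_le]
    rintro _ ⟨r, hr, rfl⟩
    obtain ⟨v, hv, hvs⟩ := h r hr
    have he : v = wordOfMask r ∘ σ.symm :=
      support₂_injective (by rw [hvs, support₂_comp_symm, support₂_wordOfMask])
    rw [SetLike.mem_coe, Submodule.mem_comap]
    subst he
    exact hv
  rw [MulAction.mem_stabilizer_iff]
  refine Set.eq_of_subset_of_ncard_le ?_ ?_ (Set.toFinite _)
  · rintro _ ⟨_, ⟨w, hw, rfl⟩, rfl⟩
    exact ⟨_, hle hw, support₂_comp_symm σ w⟩
  · rw [← Set.image_smul, Set.ncard_image_of_injective _ (MulAction.injective σ)]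

theorem smul_mem_supports {σ : Equiv.Perm GolayPt} (hσ : σ ∈ M24) {s : Finset GolayPt}
    (hs : s ∈ supports (golayCode : Set (GolayPt → ZMod 2))) :
    σ • s ∈ supports (golayCode : Set (GolayPt → ZMod 2)) :=
  (MulAction.mem_stabilizer_iff.mp hσ).subset (Set.smul_mem_smul_set hs)

theorem smul_mem_octads {σ : Equiv.Perm GolayPt} (hσ : σ ∈ M24) {o : Finset GolayPt}
    (ho : o ∈ octads) : σ • o ∈ octads :=
  ⟨smul_mem_supports hσ ho.1, by rw [Finset.card_smul_finset, ho.2]⟩

theorem smul_mem_dodecads {σ : Equiv.Perm GolayPt} (hσ : σ ∈ M24) {d : Finset GolayPt}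
    (hd : d ∈ dodecads) : σ • d ∈ dodecads :=
  ⟨smul_mem_supports hσ hd.1, by rw [Finset.card_smul_finset, hd.2]⟩

theorem M24_eq_setSystemAut_octads : M24 = setSystemAut octads := by
  ext σ
  constructor
  · intro hσ
    rw [MulAction.mem_stabilizer_iff]
    refine Set.eq_of_subset_of_ncard_le ?_ ?_ (Set.toFinite _)
    · rintro _ ⟨o, ho, rfl⟩
      exact smul_mem_octads hσ ho
    · rw [← Set.image_smul, Set.ncard_image_of_injective _ (MulAction.injective σ)]
  · intro hσ
    rw [MulAction.mem_stabilizer_iff] at hσ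
    exact mem_M24_of_rows fun r hr =>
      (hσ.subset (Set.smul_mem_smul_set (row_mem_octads hr))).1

/-- The octad through (at least) five given points, when they lie in one. -/
theorem smul_octad_eq {σ : Equiv.Perm GolayPt} (hσ : σ ∈ M24) {o s : Finset GolayPt}
    (ho : o ∈ octads) (hs : 5 ≤ s.card) (hso : s ⊆ o) (hfix : ∀ p ∈ s, σ p = p) : σ • o = o := by
  refine octad_unique (smul_mem_octads hσ ho) ho hs ?_ hso
  intro p hp
  exact Finset.mem_smul_finset.mpr ⟨p, hso hp, hfix p hp⟩

end Cfsg.Agent.Lib.Golay
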