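import Cfsg.Agent.Lib.Golay.Octads
import Cfsg.Agent.Lib.Computation.PermCode

/-!
# Permutations of the 24 points coded by natural numbers

`gperm c` is the permutation with code `c` (five binary digits per index, see
`Cfsg.Agent.Lib.Computation.PermCode`); `permMask c m` is the image of the mask `m`.
-/

set_option autoImplicit false

namespace Cfsg.Agent.Lib.Golay

open Cfsg Cfsg.Agent.Lib.Computation
open scoped Pointwise

/-- Indices and points. -/
def ptEquiv : Fin 24 ≃ GolayPt where
  toFun i := pt i
  invFun p := ⟨idx p, idx_lt p⟩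
  left_inv i := Fin.ext (idx_pt i.isLt)
  right_inv p := pt_idx p

theorem ptEquiv_apply (i : Fin 24) : ptEquiv i = pt i := rfl

theorem ptEquiv_symm_apply (p : GolayPt) : (ptEquiv.symm p : ℕ) = idx p := rfl

/-- The homomorphism from index permutations to point permutations. -/
def indexHom : Equiv.Perm (Fin 24) ≃* Equiv.Perm GolayPt where
  toEquiv := ptEquiv.permCongr
  map_mul' a b := (ptEquiv.permCongr_mul a b).symm ▸ rfl

theorem indexHom_apply (a : Equiv.Perm (Fin 24)) (p : GolayPt) :
    indexHom a p = ptEquiv (a (ptEquiv.symm p)) := rfl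

/-- `c` codes a permutation of the indices. -/
def okCode (c : ℕ) : Bool := okPerm 24 5 c

/-- The permutation of the points with code `c` (the identity for invalid codes). -/
noncomputable def gperm (c : ℕ) : Equiv.Perm GolayPt := indexHom (decodeP 24 5 c)

/-- The image of a point under a code. -/
def imgCode (c : ℕ) (p : GolayPt) : GolayPt := pt (getW 5 c (idx p))

theorem gperm_apply {c : ℕ} (hc : okCode c = true) (p : GolayPt) : gperm c p = imgCode c p := by
  rw [gperm, indexHom_apply, ptEquiv_apply, decodeP_apply hc]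
  rfl

theorem getW_lt {c : ℕ} (hc : okCode c = true) {i : ℕ} (hi : i < 24) : getW 5 c i < 24 :=
  okPerm_lt hc hi

theorem idx_gperm {c : ℕ} (hc : okCode c = true) (p : GolayPt) :
    idx (gperm c p) = getW 5 c (idx p) := by
  rw [gperm_apply hc, imgCode, idx_pt (getW_lt hc (idx_lt p))]

theorem gperm_mul {a b : ℕ} (ha : okCode a = true) (hb : okCode b = true) :
    gperm (mulP 24 5 a b) = gperm a * gperm b := by
  rw [gperm, gperm, gperm, decodeP_mulP ha hb, map_mul]

theorem okCode_mulP {a b : ℕ} (ha : okCode a = true) (hb : okCode b = true) :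
    okCode (mulP 24 5 a b) = true := okPerm_mulP ha hb

/-- A permutation agrees with a code. -/
theorem eq_gperm {σ : Equiv.Perm GolayPt} {c : ℕ} (hc : okCode c = true)
    (h : ∀ p, σ p = imgCode c p) : σ = gperm c :=
  Equiv.ext fun p => by rw [h, gperm_apply hc]

/-- The code of the identity. -/
def oneCode : ℕ := packW 5 (fun x => x) 24

theorem okCode_oneCode : okCode oneCode = true := by decide +kernel

theorem gperm_oneCode : gperm oneCode = 1 :=
  (eq_gperm okCode_oneCode (by decide +kernel)).symm

/-- The image of the mask `m` under the permutation coded by `c`. -/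
def permMask (c m : ℕ) : ℕ :=
  Nat.rec 0 (fun i acc => bif m.testBit i then acc ||| 2 ^ getW 5 c i else acc) 24

theorem testBit_permMask_aux {c m j : ℕ} : ∀ {k : ℕ},
    (Nat.rec (motive := fun _ => ℕ) 0
      (fun i acc => bif m.testBit i then acc ||| 2 ^ getW 5 c i else acc) k).testBit j = true ↔
      ∃ i < k, m.testBit i = true ∧ getW 5 c i = j := by
  intro k
  induction k with
  | zero => simp
  | succ k ih =>
    cases h : m.testBit k with
    | false =>
      simp only [h, cond_false, ih]
      constructor
      · rintro ⟨i, hi, h1, h2⟩; exact ⟨i, by omega, h1, h2⟩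
      · rintro ⟨i, hi, h1, h2⟩
        rcases Nat.lt_succ_iff_lt_or_eq.mp hi with hi | rfl
        · exact ⟨i, hi, h1, h2⟩
        · rw [h] at h1; exact absurd h1 (by simp)
    | true =>
      simp only [h, cond_true, Nat.testBit_or, Bool.or_eq_true, ih, Nat.testBit_two_pow,
        decide_eq_true_eq]
      constructor
      · rintro (⟨i, hi, h1, h2⟩ | h2)
        · exact ⟨i, by omega, h1, h2⟩
        · exact ⟨k, by omega, h, h2⟩
      · rintro ⟨i, hi, h1, h2⟩
        rcases Nat.lt_succ_iff_lt_or_eq.mp hi with hi | rfl
        · exact Or.inl ⟨i, hi, h1, h2⟩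
        · exact Or.inr h2

theorem smul_setOfMask {c : ℕ} (hc : okCode c = true) (m : ℕ) :
    gperm c • setOfMask m = setOfMask (permMask c m) := by
  ext q
  rw [mem_setOfMask, permMask, testBit_permMask_aux, Finset.mem_smul_finset]
  constructor
  · rintro ⟨p, hp, rfl⟩
    exact ⟨idx p, idx_lt p, mem_setOfMask.mp hp, (idx_gperm hc p).symm⟩
  · rintro ⟨i, hi, h1, h2⟩
    refine ⟨pt i, mem_setOfMask.mpr (by rwa [idx_pt hi]), ?_⟩
    apply idx_injective
    rw [Equiv.Perm.smul_def, idx_gperm hc, idx_pt hi, h2]

theorem permMask_lt {c : ℕ} (hc : okCode c = true) (m : ℕ) : permMask c m < 2 ^ 24 := by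
  refine Nat.lt_pow_two_of_testBit _ fun j hj => ?_
  rw [Bool.eq_false_iff, ne_eq, permMask, testBit_permMask_aux]
  rintro ⟨i, hi, -, h2⟩
  have := getW_lt hc hi
  omega

/-- `c` codes an element of the group of the code. -/
def inM24 (c : ℕ) : Bool := okCode c && rows.all fun r => inCode (permMask c r)

theorem gperm_mem_M24 {c : ℕ} (h : inM24 c = true) : gperm c ∈ M24 := by
  simp only [inM24, Bool.and_eq_true, List.all_eq_true] at h
  refine mem_M24_of_rows fun r hr => ?_
  rw [smul_setOfMask h.1]
  exact setOfMask_mem_supports (h.2 r hr)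

theorem okCode_of_inM24 {c : ℕ} (h : inM24 c = true) : okCode c = true := by
  simp only [inM24, Bool.and_eq_true] at h
  exact h.1

theorem mask_eq_of_smul_eq {c m m' : ℕ} (hc : okCode c = true) (hm : m' < 2 ^ 24)
    (h : gperm c • setOfMask m = setOfMask m') : permMask c m = m' := by
  rw [smul_setOfMask hc] at h
  exact setOfMask_injOn (permMask_lt hc m) hm h

end Cfsg.Agent.Lib.Golay
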